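import Cfsg.Agent.Lib.Classical.GeoFour.SU.OrthSub.Basic

/-!
# A transvection at a rational isotropic vector gives the special unitary group
-/

set_option autoImplicit false
set_option linter.unusedSectionVars false
set_option backward.isDefEq.respectTransparency false

open Module

namespace CfsgLib.Classical.GeoFour.SU.OrthSub

open SubfieldOrth (IsOFrame IsSg IsRefl)
open SubfieldMax (coe_smul_eq smul_mem')

variable {F : Type*} [Field F] [Fintype F] {V : Type*} [AddCommGroup V] [Module F V] [FiniteDimensional F V]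
  {σ : F →+* F} {F₀ : Subfield F} {B : V →ₛₗ[σ] V →ₗ[F] F} {V₀ : Submodule F₀ V} {ε : F}
variable {M : Subgroup (isomGroup B)}
variable (hR : IsOFrame B V₀ ε)
include hR

theorem utv_scale {g : isomGroup B} {d : V} {a c : F} (hd : B d d = 0) (hg : IsUTv g (a • d) c) :
    IsUTv g d (c * (a * σ a)) := by
  refine ⟨hd, ?_, fun z => ?_⟩
  · rw [map_mul, map_mul, hR.invol]; linear_combination (a * σ a) * hg.2.1
  · rw [hg.2.2]
    simp only [map_smulₛₗ, LinearMap.smul_apply, smul_eq_mul]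
    module

/-- An axis at every isotropic point of a hyperbolic rational plane. -/
theorem plane_axis (hA : ∀ d : V₀, B (d : V) (d : V) = 0 → IsTAxis M (d : V)) {z : V} {Y₀ Y₁ : V₀}
    (hz : (Y₀ : V) + ε • (Y₁ : V) = z) (hzz : B z z = 0) {Y : F} (hY : Y ∈ F₀) (hY0 : Y ≠ 0)
    (hD : B (Y₀ : V) (Y₁ : V) ^ 2 - B (Y₀ : V) (Y₀ : V) * B (Y₁ : V) (Y₁ : V) = Y ^ 2) : IsTAxis M z := by
  have key : ∀ (d₁ d₂ : V₀) (α γ : F), B (d₁ : V) (d₁ : V) = 0 → B (d₂ : V) (d₂ : V) = 0 →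
      B (d₁ : V) (d₂ : V) ≠ 0 → α ≠ 0 → α • ((d₁ : V) + γ • (d₂ : V)) = z → IsTAxis M z := by
    intro d₁ d₂ α γ h1 h2 h12 hα e
    have h21 : B (d₂ : V) (d₁ : V) ≠ 0 := by rwa [hR.comm₀]
    have hγ : γ + σ γ = 0 := by
      have h := hzz
      rw [← e, hR.herm.smul_self] at h
      have h' := (mul_eq_zero.1 h).resolve_left (mul_ne_zero hα ((map_ne_zero σ).2 hα))
      simp only [map_add, map_smul, map_smulₛₗ, LinearMap.add_apply, LinearMap.smul_apply, smul_eq_mul, h1, h2,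
        hR.comm₀ d₂ d₁, RingHom.id_apply] at h'
      exact (mul_eq_zero.1 (show (γ + σ γ) * B (d₁ : V) (d₂ : V) = 0 by linear_combination h')).resolve_right h12
    have h := hR.herm.axis_step hR.nondeg (hA d₂ h2) h2 (hA d₁ h1) (c := γ / B (d₂ : V) (d₁ : V)) (by
      rw [map_div₀, real hR, ← add_div, hγ, zero_div])
    rw [div_mul_cancel₀ _ h21] at h
    exact e ▸ h.smul hR.invol hα
  have h00 : B (Y₀ : V) (Y₀ : V) = ε * ε * B (Y₁ : V) (Y₁ : V) := by
    have h := self_parts hR Y₀ Y₁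
    rw [hz, hzz] at h
    linear_combination -h
  set c := B (Y₀ : V) (Y₁ : V) with hc
  by_cases h11 : B (Y₁ : V) (Y₁ : V) = 0
  · have hc0 : c ≠ 0 := fun h => hY0 (eq_zero_of_pow_eq_zero (n := 2) (by rw [← hD, h, h11]; ring))
    exact key Y₀ Y₁ 1 ε (by rw [h00, h11, mul_zero]) h11 hc0 one_ne_zero (by rw [one_smul, hz])
  · set Q0 := B (Y₀ : V) (Y₀ : V) with hQ0
    have hQ00 : Q0 ≠ 0 := by rw [h00]; exact mul_ne_zero (mul_ne_zero hR.eps_ne hR.eps_ne) h11
    let x₁ : F₀ := ⟨(-c + Y) / Q0, div_mem (add_mem (neg_mem (hR.form _ Y₀.2 _ Y₁.2)) hY) (hR.form _ Y₀.2 _ Y₀.2)⟩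
    let x₂ : F₀ := ⟨(-c - Y) / Q0, div_mem (sub_mem (neg_mem (hR.form _ Y₀.2 _ Y₁.2)) hY) (hR.form _ Y₀.2 _ Y₀.2)⟩
    have hx₁ : (x₁ : F) = (-c + Y) / Q0 := rfl
    have hx₂ : (x₂ : F) = (-c - Y) / Q0 := rfl
    have hx : (x₁ : F) - x₂ ≠ 0 := by
      rw [hx₁, hx₂, ← sub_div, show -c + Y - (-c - Y) = 2 * Y by ring]
      exact div_ne_zero (mul_ne_zero hR.two hY0) hQ00
    have hεx : 1 - ε * (x₂ : F) ≠ 0 := fun h =>
      one_ne_zero ((hR.scalar_zero (one_mem F₀) (neg_mem x₂.2) (by linear_combination h)).1)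
    set α := (1 - ε * (x₂ : F)) / ((x₁ : F) - x₂) with hα
    have hα0 : α ≠ 0 := div_ne_zero hεx hx
    have h2 := hR.two
    refine key (x₁ • Y₀ + Y₁) (x₂ • Y₀ + Y₁) α ((ε - α) / α) ?_ ?_ ?_ hα0 ?_
    · simp [coe_smul_eq, hR.sigma_coe, ← hQ0, hR.comm₀ Y₁ Y₀, ← hc]
      rw [hx₁]; field_simp; linear_combination -hD
    · simp [coe_smul_eq, hR.sigma_coe, ← hQ0, hR.comm₀ Y₁ Y₀, ← hc]
      rw [hx₂]; field_simp; linear_combination -hD
    · simp [coe_smul_eq, hR.sigma_coe, ← hQ0, hR.comm₀ Y₁ Y₀, ← hc]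
      rw [hx₁, hx₂]
      intro h
      refine hY0 (eq_zero_of_pow_eq_zero (n := 2) ?_)
      field_simp at h
      exact (mul_eq_zero.1 (show (2 : F) * Y ^ 2 = 0 by linear_combination -h - hD)).resolve_left h2
    · have e1 : α * (x₁ : F) + (ε - α) * x₂ = 1 := by rw [hα]; field_simp; ring
      simp only [Submodule.coe_add, SetLike.val_smul, coe_smul_eq]
      rw [← hz]
      match_scalars
      · field_simp; linear_combination e1
      · field_simp; ring

variable (hdim : finrank F₀ V₀ = 4) (hO : Over B V₀ M)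
include hdim hO

/-- A transvection at a rational vector gives everything. -/
theorem sIsom_le_of_tv (hn : 4 ≤ finrank F V) {d : V₀} (hd : B (d : V) (d : V) = 0) (hd0 : d ≠ 0)
    {g : isomGroup B} (hg : g ∈ M) {c : F} (hgc : IsUTv g (d : V) c) (hc : c ≠ 0) : sIsom B ≤ M := by
  obtain ⟨f, hff, hdf, -⟩ := exists_aniso_perp_line hR hd hd0
  -- all coefficients at `d`
  let S : Set F := {k | ∃ h ∈ M, IsUTv h (d : V) k}
  have hsq : ∀ a : F, a ∈ F₀ → c * (a * a) ∈ S := by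
    intro a ha
    by_cases ha0 : a = 0
    · exact ⟨1, one_mem M, hd, by rw [ha0]; simp, fun z => by rw [ha0]; simp⟩
    obtain ⟨T, hT, hTd, -, -⟩ := exists_torus hR hdim hO hd hff hdf ha ha0
    refine ⟨_, mul_mem (mul_mem hT hg) (inv_mem hT), ?_⟩
    have h := hgc.conj T
    rw [hTd] at h
    have h' := utv_scale hR hd h
    rwa [(hR.fixed _).1 ha] at h'
  have hA₀ : IsTAxis M (d : V) := by
    intro g' c' hg'
    set s := c' / c with hs
    have hsF : s ∈ F₀ := (hR.fixed _).2 (by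
      rw [hs, map_div₀, eq_neg_of_add_eq_zero_right hg'.2.1, eq_neg_of_add_eq_zero_right hgc.2.1, neg_div_neg_eq])
    obtain ⟨h₁, h₁M, e₁⟩ := hsq ((s + 1) / 2) (div_mem (add_mem hsF (one_mem _)) (two_mem hR))
    obtain ⟨h₂, h₂M, e₂⟩ := hsq ((s - 1) / 2) (div_mem (sub_mem hsF (one_mem _)) (two_mem hR))
    refine (Subgroup.mul_mem_cancel_right M h₂M).1 (?_ : g' * h₂ ∈ M)
    suffices g' * h₂ = h₁ by rw [this]; exact h₁M
    refine Subtype.ext (LinearEquiv.ext fun z => ?_)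
    rw [Subgroup.coe_mul, LinearEquiv.mul_apply, e₂.2.2, hg'.2.2, e₁.2.2, map_add, map_smul, hd, smul_zero, add_zero,
      show c' = c * s by rw [hs, mul_div_cancel₀ _ hc]]
    have := hR.two
    match_scalars <;> field_simp <;> ring
  have hA : ∀ e : V₀, B (e : V) (e : V) = 0 → IsTAxis M (e : V) := by
    intro e he
    by_cases he0 : e = 0
    · rw [he0]; simpa using hR.herm.isTAxis_zero M
    obtain ⟨h, hh, -, k, -, hk, hhd⟩ := exists_move hR hdim hO hd hd0 he he0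
    have h1 := (hA₀.map hh).smul hR.invol (inv_ne_zero hk)
    rwa [hhd, smul_smul, inv_mul_cancel₀ hk, one_smul] at h1
  refine hR.herm.sIsom_le_of_axes hR.nondeg hn fun v hvv => ?_
  by_cases hv0 : v = 0
  · rw [hv0]; exact hR.herm.isTAxis_zero M
  obtain ⟨u, huu, huv⟩ : ∃ u : V₀, B (u : V) (u : V) = 0 ∧ B (u : V) v ≠ 0 := by
    by_contra hc
    push Not at hc
    refine hv0 (hR.sep fun z hz => ?_)
    have hz' : (⟨z, hz⟩ : V₀) ∈ Submodule.span F₀ (IsOFrame.isoPerp B V₀ []) :=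
      hR.mem_span_iso [] (by simp; omega) (by simp)
    suffices ∀ y ∈ Submodule.span F₀ (IsOFrame.isoPerp B V₀ []), B (y : V) v = 0 from this _ hz'
    intro y hy
    induction hy using Submodule.span_induction with
    | mem y hy => exact hc y hy.1
    | zero => simp
    | add a b _ _ ha hb => simp [ha, hb]
    | smul k a _ ha => simp [coe_smul_eq, ha]
  suffices IsTAxis M ((B (u : V) v)⁻¹ • v) by
    have h' := this.smul hR.invol huv
    rwa [smul_smul, mul_inv_cancel₀ huv, one_smul] at h'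
  set v₁ := (B (u : V) v)⁻¹ • v with hv₁
  have huv₁ : B (u : V) v₁ = 1 := by rw [hv₁, map_smul, smul_eq_mul, inv_mul_cancel₀ huv]
  have hvv₁ : B v₁ v₁ = 0 := by rw [hv₁, hR.herm.smul_self, hvv, mul_zero]
  obtain ⟨Y₀, Y₁, hY⟩ := hR.vec_decomp v₁
  obtain ⟨hY0, hY1⟩ : B (u : V) (Y₀ : V) = 1 ∧ B (u : V) (Y₁ : V) = 0 := by
    rw [← hY, map_add, map_smul, smul_eq_mul] at huv₁
    obtain ⟨h1, h2⟩ := hR.scalar_zero (sub_mem (hR.form _ u.2 _ Y₀.2) (one_mem F₀)) (hR.form _ u.2 _ Y₁.2)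
      (by linear_combination huv₁)
    exact ⟨sub_eq_zero.1 h1, h2⟩
  set Q := B (Y₁ : V) (Y₁ : V) with hQ
  let l : F₀ := (1 + ⟨ε * ε, hR.eps_sq⟩ * ⟨Q, hR.form _ Y₁.2 _ Y₁.2⟩ ^ 2) / 2 -
    ⟨B (Y₀ : V) (Y₁ : V), hR.form _ Y₀.2 _ Y₁.2⟩
  have hl : (l : F) = (1 + ε * ε * Q ^ 2) / 2 - B (Y₀ : V) (Y₁ : V) := rfl
  set Y' := Y₁ + l • u with hY'
  have hQ' : B (Y' : V) (Y' : V) = Q := by
    simp [hY', coe_smul_eq, huu, hY1, hR.symm_zero hY1, hQ]
  have hC : B (Y₀ : V) (Y' : V) = (1 + ε * ε * Q ^ 2) / 2 := by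
    simp [hY', coe_smul_eq, show B (Y₀ : V) (u : V) = 1 by rw [hR.comm₀, hY0], hl]
  have h00 : B (Y₀ : V) (Y₀ : V) = ε * ε * Q := by
    have h := self_parts hR Y₀ Y₁
    rw [hY, hvv₁] at h
    linear_combination -h
  have hzz : B ((Y₀ : V) + ε • (Y' : V)) ((Y₀ : V) + ε • (Y' : V)) = 0 := by
    rw [self_parts hR, hQ', h00]; ring
  have hz := plane_axis hR hA rfl hzz (Y := (1 - ε * ε * Q ^ 2) / 2)
    (div_mem (sub_mem (one_mem _) (mul_mem hR.eps_sq (pow_mem (hR.form _ Y₁.2 _ Y₁.2) 2))) (two_mem hR)) (by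
      refine div_ne_zero (fun h => ?_) hR.two
      by_cases hQ0 : Q = 0
      · simp [hQ0] at h
      have hfix : σ (ε * Q) = ε * Q := by
        have h1 : (ε * Q) ^ 2 = 1 := by linear_combination -h
        rcases sq_eq_one_iff.1 h1 with e | e <;> simp [e]
      rw [map_mul, hR.eps_tr, hQ, real hR, ← hQ] at hfix
      exact mul_ne_zero hR.two (mul_ne_zero hR.eps_ne hQ0) (by linear_combination -hfix))
    (by rw [hC, h00, hQ']; have := hR.two; field_simp; ring)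
  obtain ⟨t, ht⟩ := hR.herm.exists_uTv hR.nondeg (v := (u : V)) (c := -(ε * l)) huu
    (by rw [map_neg, map_mul, hR.eps_tr, hR.sigma_coe]; ring)
  have htz : t.1 ((Y₀ : V) + ε • (Y' : V)) = v₁ := by
    rw [ht.2.2, hY', ← hY, map_add, map_smul, hY0]
    simp only [Submodule.coe_add, SetLike.val_smul, coe_smul_eq, map_add, map_smul, hY1, huu, smul_eq_mul, mul_zero,
      add_zero]
    module
  rw [← htz]
  exact hz.map (hA u huu t _ ht)

end CfsgLib.Classical.GeoFour.SU.OrthSub
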