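import Cfsg.Agent.Lib.Classical.SubfieldOrth.Six

/-!
# Rational elements of the unitary group on a rational four-dimensional orthogonal space
-/

set_option autoImplicit false
set_option linter.unusedSectionVars false
set_option backward.isDefEq.respectTransparency false

open Module

namespace CfsgLib.Classical.GeoFour.SU.OrthSub

open SubfieldOrth (IsOFrame IsSg IsRefl)
open SubfieldMax (coe_smul_eq smul_mem')

variable {F : Type*} [Field F] [Fintype F] {V : Type*} [AddCommGroup V] [Module F V] [FiniteDimensional F V]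
  {σ : F →+* F} {F₀ : Subfield F} {B : V →ₛₗ[σ] V →ₗ[F] F} {V₀ : Submodule F₀ V} {ε : F}

/-- An isometry preserving the rational structure up to a scalar. -/
def Pres (V₀ : Submodule F₀ V) (g : isomGroup B) : Prop := ∃ s : F, s ≠ 0 ∧ ∀ f ∈ V₀, s • g.1 f ∈ V₀

/-- The hypotheses on the overgroup. -/
structure Over (B : V →ₛₗ[σ] V →ₗ[F] F) (V₀ : Submodule F₀ V) (M : Subgroup (isomGroup B)) : Prop where
  det : ∀ g ∈ M, idet B g = 1
  mem : ∀ g : isomGroup B, idet B g = 1 → Pres V₀ g → g ∈ M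

variable {M : Subgroup (isomGroup B)}

theorem Over.ratFull (hO : Over B V₀ M) : SubfieldOrth.RatFull B V₀ M := fun g hg h =>
  hO.mem g hg ⟨1, one_ne_zero, fun f hf => by rw [one_smul]; exact h f hf⟩

variable (hR : IsOFrame B V₀ ε)

/-- Two products of two reflections in one. -/
theorem refl_comp {r s : isomGroup B} {p q : V} (hr : IsRefl r p) (hs : IsRefl s q) (x : V) :
    (r * s).1 x = x - (2 / B q q * B q x) • q -
      (2 / B p p * (B p x - 2 / B q q * B q x * B p q)) • p := by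
  rw [Subgroup.coe_mul, LinearEquiv.mul_apply, hs, hr, map_sub, map_smul, smul_eq_mul]

include hR

theorem sigma_two : σ (2 : F) = 2 := map_ofNat σ 2

theorem two_mem : (2 : F) ∈ F₀ := (hR.fixed _).2 (map_ofNat σ 2)

theorem real {a b : V₀} : σ (B (a : V) (b : V)) = B (a : V) (b : V) := (hR.fixed _).1 (hR.form _ a.2 _ b.2)

/-- Rational pairings separate vectors. -/
theorem eq_of_pairing {x y : V} (h : ∀ z : V₀, B (z : V) x = B (z : V) y) : x = y :=
  sub_eq_zero.1 (hR.sep fun u hu => by rw [map_sub, h ⟨u, hu⟩, sub_self])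

/-- The rational parts of a multiple. -/
theorem smul_parts (a b : F₀) (x₀ x₁ : V₀) :
    ((a : F) + ε * b) • ((x₀ : V) + ε • (x₁ : V)) =
      ((a • x₀ + (⟨ε * ε, hR.eps_sq⟩ * b : F₀) • x₁ : V₀) : V) + ε • ((b • x₀ + a • x₁ : V₀) : V) := by
  simp only [Submodule.coe_add, SetLike.val_smul, coe_smul_eq, Subfield.coe_mul]
  module

/-- The norm of a vector in its rational parts. -/
theorem self_parts (a b : V₀) :
    B ((a : V) + ε • (b : V)) ((a : V) + ε • (b : V)) =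
      B (a : V) (a : V) - ε * ε * B (b : V) (b : V) := by
  simp only [map_add, map_smul, map_smulₛₗ, LinearMap.add_apply, LinearMap.smul_apply, smul_eq_mul, hR.eps_tr,
    RingHom.id_apply, hR.comm₀ b a]
  ring

/-- A rational vector of nonzero norm orthogonal to a given independent pair. -/
theorem exists_aniso_perp_line {d : V₀} (hd : B (d : V) (d : V) = 0) (hd0 : d ≠ 0) :
    ∃ f : V₀, B (f : V) (f : V) = 0 ∧ B (d : V) (f : V) = 1 ∧ B (f : V) (d : V) = 1 := by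
  obtain ⟨u, hu⟩ : ∃ u : V₀, B (u : V) (d : V) ≠ 0 := by
    by_contra h
    push Not at h
    exact hd0 (Subtype.ext (hR.sep fun u hu => h ⟨u, hu⟩))
  let c : F₀ := ⟨B (u : V) (d : V), hR.form _ u.2 _ d.2⟩
  let k : F₀ := ⟨B (u : V) (u : V), hR.form _ u.2 _ u.2⟩
  have hc : (c : F) ≠ 0 := hu
  let s : F₀ := k / (2 * c)
  have hs : (s : F) = B (u : V) (u : V) / (2 * B (u : V) (d : V)) := rfl
  have hu' : B (d : V) (u : V) = B (u : V) (d : V) := hR.comm₀ d u
  refine ⟨c⁻¹ • (u - s • d), ?_, ?_, ?_⟩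
  all_goals
    simp only [SetLike.val_smul, coe_smul_eq, Submodule.coe_sub, map_smul, map_smulₛₗ, map_sub, LinearMap.sub_apply,
      LinearMap.smul_apply, smul_eq_mul, hR.sigma_coe, RingHom.id_apply, hd, hu', hs, Subfield.coe_inv, map_inv₀, map_div₀,
      map_mul, map_ofNat, real hR, show (c : F) = B (u : V) (d : V) from rfl]
    have := hR.two
    field_simp
    ring

variable (hdim : finrank F₀ V₀ = 4)
include hdim

/-- An orthogonal basis of the orthogonal of a nondegenerate rational plane. -/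
theorem exists_perp_basis {y₀ y₁ : V₀}
    (hD : B (y₀ : V) (y₁ : V) ^ 2 - B (y₀ : V) (y₀ : V) * B (y₁ : V) (y₁ : V) ≠ 0) :
    ∃ p q : V₀, B (p : V) (p : V) ≠ 0 ∧ B (q : V) (q : V) ≠ 0 ∧ B (p : V) (q : V) = 0 ∧
      B (y₀ : V) (p : V) = 0 ∧ B (y₁ : V) (p : V) = 0 ∧ B (y₀ : V) (q : V) = 0 ∧ B (y₁ : V) (q : V) = 0 ∧
      ∀ z : V, B (y₀ : V) z = 0 → B (y₁ : V) z = 0 → B (p : V) z = 0 → B (q : V) z = 0 → z = 0 := by
  set N := LinearMap.ker (hR.form₀ y₀) ⊓ LinearMap.ker (hR.form₀ y₁) with hN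
  have hN2 := hR.finrank_perp_two y₀ y₁
  have hli : LinearIndependent F₀ ![y₀, y₁] := by
    rw [LinearIndependent.pair_iff]
    intro a b hab
    have h0 := congrArg (fun x : V₀ => B (y₀ : V) (x : V)) hab
    have h1 := congrArg (fun x : V₀ => B (y₁ : V) (x : V)) hab
    simp [coe_smul_eq] at h0 h1
    rw [hR.comm₀ y₁ y₀] at h1
    exact ⟨Subtype.ext ((mul_eq_zero.1 (show (a : F) * (B (y₀ : V) (y₁ : V) ^ 2 - B (y₀ : V) (y₀ : V) * B (y₁ : V) (y₁ : V)) = 0 by
      linear_combination B (y₀ : V) (y₁ : V) * h1 - B (y₁ : V) (y₁ : V) * h0)).resolve_right hD), Subtype.ext ((mul_eq_zero.1 (show (b : F) * (B (y₀ : V) (y₁ : V) ^ 2 - B (y₀ : V) (y₀ : V) * B (y₁ : V) (y₁ : V)) = 0 by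
      linear_combination B (y₀ : V) (y₁ : V) * h0 - B (y₀ : V) (y₀ : V) * h1)).resolve_right hD)⟩
  set S := Submodule.span F₀ (Set.range ![y₀, y₁]) with hS
  have hS2 : finrank F₀ S = 2 := by rw [hS, finrank_span_eq_card hli, Fintype.card_fin]
  have hdisj : N ⊓ S = ⊥ := by
    rw [Submodule.eq_bot_iff]
    rintro x ⟨⟨hx0, hx1⟩, hxS⟩
    rw [hS] at hxS
    obtain ⟨c, rfl⟩ := (Submodule.mem_span_range_iff_exists_fun F₀).1 hxS
    have h0 := hR.form₀_eq_zero.1 hx0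
    have h1 := hR.form₀_eq_zero.1 hx1
    simp [Fin.sum_univ_two, coe_smul_eq] at h0 h1 ⊢
    rw [hR.comm₀ y₁ y₀] at h1
    have e0 : c 0 = 0 := Subtype.ext ((mul_eq_zero.1 (show (c 0 : F) * (B (y₀ : V) (y₁ : V) ^ 2 - B (y₀ : V) (y₀ : V) * B (y₁ : V) (y₁ : V)) = 0 by
      linear_combination B (y₀ : V) (y₁ : V) * h1 - B (y₁ : V) (y₁ : V) * h0)).resolve_right hD)
    have e1 : c 1 = 0 := Subtype.ext ((mul_eq_zero.1 (show (c 1 : F) * (B (y₀ : V) (y₁ : V) ^ 2 - B (y₀ : V) (y₀ : V) * B (y₁ : V) (y₁ : V)) = 0 by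
      linear_combination B (y₀ : V) (y₁ : V) * h0 - B (y₀ : V) (y₀ : V) * h1)).resolve_right hD)
    simp [e0, e1]
  have h3 := Submodule.finrank_sup_add_finrank_inf_eq N S
  rw [hdisj, finrank_bot, hS2] at h3
  have h4 := Submodule.finrank_le (N ⊔ S)
  have hNd : finrank F₀ N = 2 := by
    change finrank F₀ V₀ ≤ finrank F₀ N + 2 at hN2
    omega
  have htop : N ⊔ S = ⊤ := Submodule.eq_top_of_finrank_eq (by omega)
  have hsep : ∀ x ∈ N, (∀ z ∈ N, B (z : V) (x : V) = 0) → x = 0 := by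
    intro x hx hxN
    refine Subtype.ext (hR.sep fun u hu => ?_)
    obtain ⟨n, hn, w, hw, e⟩ := Submodule.mem_sup.1 (htop ▸ Submodule.mem_top : (⟨u, hu⟩ : V₀) ∈ N ⊔ S)
    have e' : u = (n : V) + (w : V) := (congrArg Subtype.val e).symm
    rw [e', map_add, LinearMap.add_apply, hxN n hn, zero_add]
    obtain ⟨c, rfl⟩ := (Submodule.mem_span_range_iff_exists_fun F₀).1 hw
    simp [Fin.sum_univ_two, coe_smul_eq, hR.form₀_eq_zero.1 hx.1, hR.form₀_eq_zero.1 hx.2]
  obtain ⟨p, hp, hpp⟩ : ∃ p ∈ N, B (p : V) (p : V) ≠ 0 := by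
    by_contra hc
    push Not at hc
    have : N = ⊥ := by
      rw [Submodule.eq_bot_iff]
      exact fun x hx => hsep x hx fun z hz => hR.polar_two (hc z hz) (hc x hx) (hc _ (add_mem hz hx))
    rw [this, finrank_bot] at hNd
    omega
  set N' := N ⊓ LinearMap.ker (hR.form₀ p) with hN'
  obtain ⟨q, hq, hq0⟩ : ∃ q ∈ N', q ≠ 0 := by
    refine N'.exists_mem_ne_zero_of_ne_bot fun h => ?_
    have h5 := Submodule.finrank_sup_add_finrank_inf_eq N (LinearMap.ker (hR.form₀ p))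
    rw [← hN', h, finrank_bot] at h5
    have h6 := (hR.form₀ p).finrank_range_add_finrank_ker
    have h7 : finrank F₀ (LinearMap.range (hR.form₀ p)) ≤ 1 := (Submodule.finrank_le _).trans (by simp)
    have h8 := Submodule.finrank_le (N ⊔ LinearMap.ker (hR.form₀ p))
    omega
  have hpq : B (p : V) (q : V) = 0 := hR.form₀_eq_zero.1 hq.2
  have hli' : LinearIndependent F₀ ![p, q] := by
    rw [LinearIndependent.pair_iff]
    intro a b hab
    have h0 := congrArg (fun x : V₀ => B (p : V) (x : V)) hab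
    simp [coe_smul_eq, hpq, hpp] at h0
    subst h0
    rw [zero_smul, zero_add, smul_eq_zero] at hab
    exact ⟨rfl, hab.resolve_right hq0⟩
  have hspanN : Submodule.span F₀ (Set.range ![p, q]) = N := by
    refine Submodule.eq_of_le_of_finrank_eq (Submodule.span_le.2 ?_) (by rw [finrank_span_eq_card hli', hNd, Fintype.card_fin])
    rintro _ ⟨i, rfl⟩
    fin_cases i
    exacts [hp, hq.1]
  have hqq : B (q : V) (q : V) ≠ 0 := fun h => hq0 (hsep q hq.1 fun z hz => by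
    rw [← hspanN] at hz
    obtain ⟨c, rfl⟩ := (Submodule.mem_span_range_iff_exists_fun F₀).1 hz
    simp [Fin.sum_univ_two, coe_smul_eq, hpq, h])
  refine ⟨p, q, hpp, hqq, hpq, hR.form₀_eq_zero.1 hp.1, hR.form₀_eq_zero.1 hp.2, hR.form₀_eq_zero.1 hq.1.1,
    hR.form₀_eq_zero.1 hq.1.2, fun z h0 h1 h2 h3' => hR.sep fun u hu => ?_⟩
  obtain ⟨n, hn, w, hw, e⟩ := Submodule.mem_sup.1 (htop ▸ Submodule.mem_top : (⟨u, hu⟩ : V₀) ∈ N ⊔ S)
  have e' : u = (n : V) + (w : V) := (congrArg Subtype.val e).symm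
  rw [← hspanN] at hn
  obtain ⟨c, rfl⟩ := (Submodule.mem_span_range_iff_exists_fun F₀).1 hn
  obtain ⟨c', rfl⟩ := (Submodule.mem_span_range_iff_exists_fun F₀).1 hw
  subst e'
  simp [Fin.sum_univ_two, coe_smul_eq, h0, h1, h2, h3']

theorem exists_perp_pair_basis {d f : V₀} (hd : B (d : V) (d : V) = 0) (hf : B (f : V) (f : V) = 0)
    (hdf : B (d : V) (f : V) = 1) :
    ∃ p q : V₀, B (p : V) (p : V) ≠ 0 ∧ B (q : V) (q : V) ≠ 0 ∧ B (p : V) (q : V) = 0 ∧
      B (d : V) (p : V) = 0 ∧ B (f : V) (p : V) = 0 ∧ B (d : V) (q : V) = 0 ∧ B (f : V) (q : V) = 0 ∧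
      ∀ z : V, B (d : V) z = 0 → B (f : V) z = 0 → B (p : V) z = 0 → B (q : V) z = 0 → z = 0 :=
  exists_perp_basis hR hdim (by simp [hd, hf, hdf])

variable (hO : Over B V₀ M)
include hO

/-- The torus of a hyperbolic pair. -/
theorem exists_torus {d f : V₀} (hd : B (d : V) (d : V) = 0) (hf : B (f : V) (f : V) = 0)
    (hdf : B (d : V) (f : V) = 1) {t : F} (ht : t ∈ F₀) (ht0 : t ≠ 0) :
    ∃ T ∈ M, T.1 (d : V) = t • (d : V) ∧ T.1 (f : V) = t⁻¹ • (f : V) ∧
      ∀ z, B (d : V) z = 0 → B (f : V) z = 0 → T.1 z = z := by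
  have hfd : B (f : V) (d : V) = 1 := by rw [hR.comm₀, hdf]
  let t' : F₀ := ⟨t, ht⟩
  have hσt : σ t = t := (hR.fixed _).1 ht
  have hp : B ((d - f : V₀) : V) ((d - f : V₀) : V) ≠ 0 := by
    simp [hd, hf, hdf, hfd]
    intro e; exact hR.two (by linear_combination -e)
  have hq : B ((d - t' • f : V₀) : V) ((d - t' • f : V₀) : V) ≠ 0 := by
    simp [t', coe_smul_eq, hd, hf, hdf, hfd, hσt]
    intro e
    exact hR.two ((mul_eq_zero.1 (show (2 : F) * t = 0 by linear_combination -e)).resolve_right ht0)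
  obtain ⟨r, s, hr, hs, hrs⟩ := hR.refl_pair hO.ratFull hp hq
  refine ⟨r * s, hrs, ?_, ?_, fun z hzd hzf => ?_⟩
  all_goals rw [refl_comp hr hs]
  · simp [t', coe_smul_eq, hd, hf, hdf, hfd, hσt]
    have := hR.two
    match_scalars <;> simp only [show (-1 : F) - 1 = -2 by ring, show -t - t = -(2 * t) by ring, div_eq_mul_inv, inv_neg] <;> field_simp <;> ring
  · simp [t', coe_smul_eq, hd, hf, hdf, hfd, hσt]
    have := hR.two
    match_scalars <;> simp only [show (-1 : F) - 1 = -2 by ring, show -t - t = -(2 * t) by ring, div_eq_mul_inv, inv_neg] <;> field_simp <;> ring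
  · simp [t', coe_smul_eq, hzd, hzf]

/-- The rational Siegel element at an isotropic vector. -/
theorem exists_sieg {d b : V₀} (hd : B (d : V) (d : V) = 0) (hb : B (b : V) (b : V) ≠ 0)
    (hdb : B (d : V) (b : V) = 0) :
    ∃ S ∈ M, IsSg B S (d : V) (b : V) (-(B (b : V) (b : V)) / 2) := by
  let s : F₀ := ⟨B (b : V) (b : V), hR.form _ b.2 _ b.2⟩ / 2
  have hs : (s : F) = B (b : V) (b : V) / 2 := rfl
  have hbd : B (b : V) (d : V) = 0 := by rw [hR.comm₀, hdb]
  have hq : B ((b + s • d : V₀) : V) ((b + s • d : V₀) : V) = B (b : V) (b : V) := by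
    simp [coe_smul_eq, hd, hdb, hbd]
  obtain ⟨r, q, hr, hq', hrq⟩ := hR.refl_pair hO.ratFull hb (q := b + s • d) (by rwa [hq])
  refine ⟨r * q, hrq, fun z => ?_⟩
  rw [refl_comp hr hq', hq]
  simp [coe_smul_eq, hbd, hR.sigma_coe]
  rw [hs]
  have := hR.two
  match_scalars <;> field_simp <;> ring

/-- Any isotropic rational vector moves to any other. -/
theorem exists_move {d e : V₀} (hd : B (d : V) (d : V) = 0) (hd0 : d ≠ 0) (he : B (e : V) (e : V) = 0) (he0 : e ≠ 0) :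
    ∃ h ∈ M, (∀ x ∈ V₀, h.1 x ∈ V₀) ∧ ∃ c : F, c ∈ F₀ ∧ c ≠ 0 ∧ h.1 (d : V) = c • (e : V) := by
  have step : ∀ {a b : V₀}, B (a : V) (a : V) = 0 → B (b : V) (b : V) = 0 → B (a : V) (b : V) ≠ 0 →
      ∃ h ∈ M, (∀ x ∈ V₀, h.1 x ∈ V₀) ∧ ∃ c : F, c ∈ F₀ ∧ c ≠ 0 ∧ h.1 (a : V) = c • (b : V) := by
    intro a b ha hb hab
    let c : F₀ := ⟨B (a : V) (b : V), hR.form _ a.2 _ b.2⟩
    have hc : (c : F) ≠ 0 := hab
    let b' : V₀ := c⁻¹ • b
    have hab' : B (a : V) (b' : V) = 1 := by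
      simp [b', coe_smul_eq, c, hab]
    have hb' : B (b' : V) (b' : V) = 0 := by simp [b', coe_smul_eq, hb]
    have hb'a : B (b' : V) (a : V) = 1 := by rw [hR.comm₀, hab']
    obtain ⟨p, -, hpp, -, -, hap, hbp, -, -, -⟩ := exists_perp_pair_basis hR hdim ha hb' hab'
    obtain ⟨r, s, hr, hs, hrs⟩ := hR.refl_pair hO.ratFull hpp (q := a - b') (by
      simp [ha, hb', hab', hb'a]
      intro e; exact hR.two (by linear_combination -e))
    refine ⟨r * s, hrs, fun x hx => ?_, (c⁻¹ : F₀), (c⁻¹ : F₀).2, ?_, ?_⟩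
    · rw [Subgroup.coe_mul, LinearEquiv.mul_apply]
      exact hR.refl_rational hr (hR.refl_rational hs hx)
    · simpa using hc
    · rw [refl_comp hr hs, show ((c⁻¹ : F₀) : F) • (b : V) = (b' : V) from rfl]
      simp [hR.symm_zero hap, hR.symm_zero hbp, ha, hb', hab', hb'a]
      have := hR.two
      match_scalars <;> simp only [show (-1 : F) - 1 = -2 by ring, div_eq_mul_inv, inv_neg] <;> field_simp <;> ring
  by_cases hde : B (d : V) (e : V) = 0
  swap
  · exact step hd he hde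
  obtain ⟨x, hxx, hdx, hex⟩ : ∃ x : V₀, B (x : V) (x : V) = 0 ∧ B (d : V) (x : V) ≠ 0 ∧ B (x : V) (e : V) ≠ 0 := by
    obtain ⟨f, hff, hdf, hfd⟩ := exists_aniso_perp_line hR hd hd0
    by_cases hef : B (f : V) (e : V) = 0
    swap
    · exact ⟨f, hff, by rw [hdf]; exact one_ne_zero, hef⟩
    obtain ⟨p, q, hpp, hqq, -, hdp, hfp, hdq, hfq, hsep⟩ := exists_perp_pair_basis hR hdim hd hff hdf
    obtain ⟨b, hbb, hdb, hfb, heb⟩ : ∃ b : V₀, B (b : V) (b : V) ≠ 0 ∧ B (d : V) (b : V) = 0 ∧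
        B (f : V) (b : V) = 0 ∧ B (b : V) (e : V) ≠ 0 := by
      by_contra hc
      push Not at hc
      exact he0 (Subtype.ext (hsep _ hde hef (hc p hpp hdp hfp) (hc q hqq hdq hfq)))
    let k : F₀ := ⟨B (b : V) (b : V), hR.form _ b.2 _ b.2⟩ / 2
    have hk : (k : F) = B (b : V) (b : V) / 2 := rfl
    have hbd := hR.symm_zero hdb
    have hbf := hR.symm_zero hfb
    refine ⟨f + b - k • d, ?_, ?_, ?_⟩
    · simp [coe_smul_eq, hff, hd, hdb, hbd, hfb, hbf, hdf, hfd, hR.sigma_coe]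
      rw [hk]; have := hR.two; field_simp; ring
    · simp [coe_smul_eq, hd, hdb, hdf]
    · simpa [coe_smul_eq, hef, hde] using heb
  obtain ⟨h₁, h₁M, h₁V, c₁, hc₁, hc₁0, e₁⟩ := step hd hxx hdx
  obtain ⟨h₂, h₂M, h₂V, c₂, hc₂, hc₂0, e₂⟩ := step hxx he hex
  refine ⟨h₂ * h₁, mul_mem h₂M h₁M, fun y hy => ?_, c₁ * c₂, mul_mem hc₁ hc₂, mul_ne_zero hc₁0 hc₂0, ?_⟩
  · rw [Subgroup.coe_mul, LinearEquiv.mul_apply]; exact h₂V _ (h₁V y hy)
  · rw [Subgroup.coe_mul, LinearEquiv.mul_apply, e₁, map_smul, e₂, smul_smul]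

end CfsgLib.Classical.GeoFour.SU.OrthSub
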