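import Mathlib.NumberTheory.LegendreSymbol.QuadraticChar.Basic
import Mathlib.FieldTheory.Finite.Basic

/-!
# Two quadratic conditions on one variable over a finite field
-/

set_option autoImplicit false

open Finset

namespace CfsgLib.Classical.GeoFour.SU.OrthSub

variable {K : Type*} [Field K] [Fintype K] [DecidableEq K]

/-- The character sum of a quadratic polynomial. -/
theorem sum_qchar (hK : ringChar K ≠ 2) {c : K} (hc : c ≠ 0) :
    ∑ ρ : K, quadraticChar K (ρ ^ 2 - c) = -1 := by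
  have h2 : (2 : K) ≠ 0 := Ring.two_ne_zero hK
  have hcard : ∑ ρ : K, (({x : K | x ^ 2 = ρ ^ 2 - c}.toFinset.card : ℤ)) = (Fintype.card K : ℤ) - 1 := by
    rw [← Nat.cast_sum, ← Finset.card_sigma]
    have e : (Finset.univ.sigma fun ρ : K => {x : K | x ^ 2 = ρ ^ 2 - c}.toFinset).card =
        (Finset.univ.filter fun u : K => u ≠ 0).card := by
      refine Finset.card_nbij' (fun p => p.1 + p.2) (fun u => ⟨(u + c / u) / 2, (u - c / u) / 2⟩) ?_ ?_ ?_ ?_
      · rintro ⟨ρ, Y⟩ hp
        simp at hp ⊢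
        intro h
        exact hc (by rw [show Y = -ρ by linear_combination h] at hp; linear_combination hp)
      · intro u hu
        simp at hu ⊢
        field_simp
        ring
      · rintro ⟨ρ, Y⟩ hp
        simp at hp
        have hs : ρ + Y ≠ 0 := fun h => hc (by rw [show Y = -ρ by linear_combination h] at hp; linear_combination hp)
        have e : c / (ρ + Y) = ρ - Y := by rw [div_eq_iff hs]; linear_combination hp
        simp only [e, Sigma.mk.injEq, heq_eq_eq]
        constructor <;> field_simp <;> ring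
      · intro u hu
        simp at hu
        field_simp [hu]
        ring
    rw [e, Finset.filter_ne', Finset.card_erase_of_mem (Finset.mem_univ _), Finset.card_univ,
      Nat.cast_sub Fintype.card_pos, Nat.cast_one]
  simp only [quadraticChar_card_sqrts hK] at hcard
  rw [Finset.sum_add_distrib, Finset.sum_const, Finset.card_univ] at hcard
  simp at hcard
  simp only [quadraticChar_apply]
  linarith

/-- The second moment of a quadratic polynomial to the power `(q - 1) / 2`. -/
theorem sum_sq_mul_pow {h : ℕ} (hh : Fintype.card K = 2 * h + 1) (h2 : 2 ≤ h) (c : K) :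
    ∑ ρ : K, ρ ^ 2 * (ρ ^ 2 - c) ^ h = (h : K) * c := by
  classical
  obtain ⟨m, rfl⟩ : ∃ m, h = m + 2 := ⟨h - 2, by omega⟩
  have key : ∀ i < 2 * (m + 2), ∑ x : K, x ^ i = 0 := fun i hi =>
    FiniteField.sum_pow_lt_card_sub_one K i (by omega)
  have htop : ∑ x : K, x ^ (2 * (m + 2)) = -1 := by
    have e : ∀ x : K, x ^ (2 * (m + 2)) = 1 - if x = 0 then 1 else 0 := fun x => by
      split_ifs with hx
      · simp [hx]
      · rw [sub_zero, ← FiniteField.pow_card_sub_one_eq_one x hx, hh]; congr 1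
    rw [Finset.sum_congr rfl fun x _ => e x, Finset.sum_sub_distrib, Finset.sum_ite_eq' , if_pos (Finset.mem_univ _),
      Finset.sum_const, Finset.card_univ, nsmul_one, FiniteField.cast_card_eq_zero, zero_sub]
  have hexp : ∀ ρ : K, ρ ^ 2 * (ρ ^ 2 - c) ^ (m + 2) =
      ∑ i ∈ range (m + 3), ρ ^ (2 * i + 2) * ((-c) ^ (m + 2 - i) * ((m + 2).choose i : K)) := fun ρ => by
    rw [sub_eq_add_neg, add_pow, Finset.mul_sum]
    refine Finset.sum_congr rfl fun i _ => ?_
    ring
  rw [Finset.sum_congr rfl fun ρ _ => hexp ρ, Finset.sum_comm]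
  simp only [← Finset.sum_mul]
  rw [Finset.sum_range_succ, Finset.sum_range_succ, Finset.sum_eq_zero fun i hi => by
    rw [key _ (by rw [Finset.mem_range] at hi; omega), zero_mul]]
  have e1 : ∑ x : K, x ^ (2 * (m + 2) + 2) = 0 := by
    rw [← key 2 (by omega)]
    refine Finset.sum_congr rfl fun x _ => ?_
    rw [show 2 * (m + 2) + 2 = Fintype.card K + 1 by omega, pow_succ, FiniteField.pow_card, pow_two]
  rw [e1, show 2 * (m + 1) + 2 = 2 * (m + 2) by ring, htop, show m + 2 - (m + 1) = 1 by omega,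
    Nat.choose_symm_of_eq_add (show m + 2 = (m + 1) + 1 from rfl), Nat.choose_one_right]
  ring

/-- Two conditions `π (ρ² - δ)` square and `π (ρ² - δ')` a nonzero square cannot be nested. -/
theorem exists_separating (hK : ringChar K ≠ 2) (h5 : 5 ≤ Fintype.card K) {π δ δ' : K} (hπ : π ≠ 0)
    (hδ' : δ' ≠ 0) (hne : δ ≠ δ') (hcase : δ ≠ 0 ∨ IsSquare π) :
    ∃ ρ : K, IsSquare (π * (ρ ^ 2 - δ)) ∧ ¬ (π * (ρ ^ 2 - δ') ≠ 0 ∧ IsSquare (π * (ρ ^ 2 - δ'))) := by
  classical
  by_contra hc
  push Not at hc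
  have hle : ∀ ρ : K, quadraticChar K (π * (ρ ^ 2 - δ)) ≤ quadraticChar K (π * (ρ ^ 2 - δ')) := by
    intro ρ
    by_cases hs : IsSquare (π * (ρ ^ 2 - δ))
    · obtain ⟨h0, h1⟩ := hc ρ hs
      rw [(quadraticChar_one_iff_isSquare h0).2 h1]
      rcases eq_or_ne (π * (ρ ^ 2 - δ)) 0 with h | h
      · simp [h]
      · rw [(quadraticChar_one_iff_isSquare h).2 hs]
    · rw [quadraticChar_neg_one_iff_not_isSquare.2 hs]
      rcases eq_or_ne (π * (ρ ^ 2 - δ')) 0 with h | h
      · simp [h]
      · rcases quadraticChar_dichotomy h with h' | h' <;> rw [h'] <;> norm_num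
  have hsum' : ∑ ρ : K, quadraticChar K (π * (ρ ^ 2 - δ')) = -quadraticChar K π := by
    simp only [map_mul, ← Finset.mul_sum, sum_qchar hK hδ', mul_neg, mul_one]
  rcases eq_or_ne δ 0 with rfl | hδ
  · have hsq : IsSquare π := hcase.resolve_left fun h => h rfl
    have hall : ∀ ρ : K, quadraticChar K (π * (ρ ^ 2 - δ')) = 1 := fun ρ => by
      have hs : IsSquare (π * (ρ ^ 2 - 0)) := by
        rw [sub_zero]; exact hsq.mul ⟨ρ, pow_two ρ⟩
      obtain ⟨h0, h1⟩ := hc ρ hs
      exact (quadraticChar_one_iff_isSquare h0).2 h1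
    rw [Finset.sum_congr rfl fun ρ _ => hall ρ, (quadraticChar_one_iff_isSquare hπ).2 hsq] at hsum'
    simp at hsum'
  have hsum : ∑ ρ : K, quadraticChar K (π * (ρ ^ 2 - δ)) = -quadraticChar K π := by
    simp only [map_mul, ← Finset.mul_sum, sum_qchar hK hδ, mul_neg, mul_one]
  have heq := (Finset.sum_eq_sum_iff_of_le fun ρ _ => hle ρ).1 (hsum.trans hsum'.symm)
  have hodd : Fintype.card K % 2 = 1 := FiniteField.odd_card_of_char_ne_two hK
  obtain ⟨h, hh⟩ : ∃ h, Fintype.card K = 2 * h + 1 := ⟨Fintype.card K / 2, by omega⟩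
  have hpow : ∀ ρ : K, (ρ ^ 2 - δ) ^ h = (ρ ^ 2 - δ') ^ h := fun ρ => by
    have e := congrArg (Int.cast : ℤ → K) (heq ρ (Finset.mem_univ ρ))
    rw [quadraticChar_eq_pow_of_char_ne_two' hK, quadraticChar_eq_pow_of_char_ne_two' hK,
      show Fintype.card K / 2 = h by omega, mul_pow, mul_pow] at e
    exact mul_left_cancel₀ (pow_ne_zero _ hπ) e
  have hh0 : (h : K) ≠ 0 := fun e => by
    have h0 := FiniteField.cast_card_eq_zero K
    rw [hh] at h0
    push_cast at h0
    rw [e, mul_zero, zero_add] at h0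
    exact one_ne_zero h0
  refine hne (mul_left_cancel₀ hh0 ?_)
  rw [← sum_sq_mul_pow hh (by omega) δ, ← sum_sq_mul_pow hh (by omega) δ']
  exact Finset.sum_congr rfl fun ρ _ => by rw [hpow]

end CfsgLib.Classical.GeoFour.SU.OrthSub
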