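import Cfsg.Agent.Lib.Classical.GeoFour.SU.OrthSub.Point

/-!
# Irrational images of isotropic points

Without transvections the rational parts of such an image span a nondegenerate plane with anisotropic orthogonal.
-/

set_option autoImplicit false
set_option linter.unusedSectionVars false
set_option backward.isDefEq.respectTransparency false

open Module

namespace CfsgLib.Classical.GeoFour.SU.OrthSub

open SubfieldOrth (IsOFrame IsSg IsRefl)
open SubfieldMax (coe_smul_eq smul_mem')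

variable {F : Type*} [Field F] [Fintype F] {V : Type*} [AddCommGroup V] [Module F V] [FiniteDimensional F V]
  {σ : F →+* F} {F₀ : Subfield F} {B : V →ₛₗ[σ] V →ₗ[F] F} {V₀ : Submodule F₀ V} {ε : F}
variable {M : Subgroup (isomGroup B)}
variable (hR : IsOFrame B V₀ ε)
include hR

/-- A preserving member with a fixed rational vector is rational. -/
theorem rational_of_pres {g : isomGroup B} (hg : Pres V₀ g) {d : V₀} (hd0 : d ≠ 0)
    (hgd : g.1 (d : V) = (d : V)) : ∀ f ∈ V₀, g.1 f ∈ V₀ := by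
  obtain ⟨s, hs, hsV⟩ := hg
  obtain ⟨u, hu⟩ : ∃ u : V₀, B (u : V) (d : V) ≠ 0 := by
    by_contra h
    push Not at h
    exact hd0 (Subtype.ext (hR.sep fun u hu => h ⟨u, hu⟩))
  have h1 := hR.form _ u.2 _ (hsV _ d.2)
  rw [hgd, map_smul, smul_eq_mul] at h1
  have hsF : s ∈ F₀ := by
    have := div_mem h1 (hR.form _ u.2 _ d.2)
    rwa [mul_div_cancel_right₀ _ hu] at this
  intro f hf
  have := smul_mem' (inv_mem hsF) (hsV f hf)
  rwa [smul_smul, inv_mul_cancel₀ hs, one_smul] at this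

/-- Independent rational parts exclude a rational multiple. -/
theorem not_pres_of_indep {g : isomGroup B} {a y₀ y₁ : V₀} (hga : g.1 (a : V) = (y₀ : V) + ε • (y₁ : V))
    (hind : ∀ k l : F₀, k • y₀ + l • y₁ = 0 → k = 0 ∧ l = 0) : ¬ Pres V₀ g := by
  rintro ⟨s, hs, hsV⟩
  obtain ⟨a₀, a₁, ha⟩ := hR.scalar_decomp s
  have h1 := hsV _ a.2
  rw [hga, ← ha, smul_parts hR] at h1
  let x₀ : V₀ := a₀ • y₀ + (⟨ε * ε, hR.eps_sq⟩ * a₁ : F₀) • y₁
  let x₁ : V₀ := a₁ • y₀ + a₀ • y₁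
  have h2 := (hR.vec_zero (a := x₀ - ⟨_, h1⟩) (b := x₁) (by simp [x₀, x₁])).2
  obtain ⟨e1, e0⟩ := hind a₁ a₀ h2
  exact hs (by rw [← ha, e0, e1]; simp)

theorem indep_of_disc {y₀ y₁ : V₀}
    (hD : B (y₀ : V) (y₁ : V) ^ 2 - B (y₀ : V) (y₀ : V) * B (y₁ : V) (y₁ : V) ≠ 0) :
    ∀ k l : F₀, k • y₀ + l • y₁ = 0 → k = 0 ∧ l = 0 := by
  intro a b hab
  have h0 := congrArg (fun x : V₀ => B (y₀ : V) (x : V)) hab
  have h1 := congrArg (fun x : V₀ => B (y₁ : V) (x : V)) hab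
  simp [coe_smul_eq] at h0 h1
  rw [hR.comm₀ y₁ y₀] at h1
  exact ⟨Subtype.ext ((mul_eq_zero.1 (show (a : F) * _ = 0 by
      linear_combination B (y₀ : V) (y₁ : V) * h1 - B (y₁ : V) (y₁ : V) * h0)).resolve_right hD),
    Subtype.ext ((mul_eq_zero.1 (show (b : F) * _ = 0 by
      linear_combination B (y₀ : V) (y₁ : V) * h0 - B (y₀ : V) (y₀ : V) * h1)).resolve_right hD)⟩

variable (hdim : finrank F₀ V₀ = 4) (hO : Over B V₀ M) (hN : NoTv M V₀)
include hdim hO hN

/-- The parts of an irrational image are independent. -/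
theorem indep_of_not_pres {g : isomGroup B} (hg : g ∈ M) (hgP : ¬ Pres V₀ g) {a : V₀}
    (ha : B (a : V) (a : V) = 0) (ha0 : a ≠ 0) {y₀ y₁ : V₀} (hga : g.1 (a : V) = (y₀ : V) + ε • (y₁ : V)) :
    ∀ k l : F₀, k • y₀ + l • y₁ = 0 → k = 0 ∧ l = 0 := by
  intro k l hkl
  by_cases hk : k = 0
  · subst hk
    rw [zero_smul, zero_add] at hkl
    refine ⟨rfl, by_contra fun hl => hgP ?_⟩
    rw [(smul_eq_zero.1 hkl).resolve_left hl] at hga
    exact pres_of_image hR hdim hO hN hg ha ha0 (e := y₀) (μ := 1) (by rw [hga]; simp)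
  · exfalso
    refine hgP (pres_of_image hR hdim hO hN hg ha ha0 (e := y₁) (μ := -((l : F) / k) + ε) ?_)
    have e : y₀ = -(l / k) • y₁ := by
      have e' : k • y₀ = -(l • y₁) := eq_neg_of_add_eq_zero_left hkl
      rw [← inv_smul_smul₀ hk y₀, e', smul_neg, smul_smul, neg_smul, inv_mul_eq_div]
    rw [hga, e]
    simp only [Submodule.coe_neg, SetLike.val_smul, coe_smul_eq, Subfield.coe_div, neg_smul]
    module

/-- The rational parts span a nondegenerate plane. -/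
theorem disc_ne {g : isomGroup B} (hg : g ∈ M) (hgP : ¬ Pres V₀ g) {a : V₀}
    (ha : B (a : V) (a : V) = 0) (ha0 : a ≠ 0) {y₀ y₁ : V₀} (hga : g.1 (a : V) = (y₀ : V) + ε • (y₁ : V)) :
    B (y₀ : V) (y₁ : V) ^ 2 - B (y₀ : V) (y₀ : V) * B (y₁ : V) (y₁ : V) ≠ 0 := by
  classical
  intro hD
  have hind := indep_of_not_pres hR hdim hO hN hg hgP ha ha0 hga
  have h00 : B (y₀ : V) (y₀ : V) = ε * ε * B (y₁ : V) (y₁ : V) := by
    have h := self_parts hR y₀ y₁
    rw [← hga, isomGroup_apply, ha] at h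
    linear_combination -h
  have h11 : B (y₁ : V) (y₁ : V) = 0 := by
    by_contra h
    have he : (ε * B (y₁ : V) (y₁ : V)) ^ 2 = B (y₀ : V) (y₁ : V) ^ 2 := by rw [h00] at hD; linear_combination -hD
    rcases sq_eq_sq_iff_eq_or_eq_neg.1 he with e | e
    · exact h ((hR.scalar_zero (neg_mem (hR.form _ y₀.2 _ y₁.2)) (hR.form _ y₁.2 _ y₁.2) (by linear_combination e)).2)
    · exact h ((hR.scalar_zero (hR.form _ y₀.2 _ y₁.2) (hR.form _ y₁.2 _ y₁.2) (by linear_combination e)).2)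
  rw [h11, mul_zero] at h00
  have h01 : B (y₀ : V) (y₁ : V) = 0 := by
    rw [h11, mul_zero, sub_zero] at hD
    exact eq_zero_of_pow_eq_zero hD
  have h10 := hR.symm_zero h01
  obtain ⟨S, hS, hSs⟩ := hO.ratFull.ratSg hR y₀ y₁ h00 h11 h01
  have hSw : S.1 (g.1 (a : V)) = g.1 (a : V) := by
    rw [hga, hSs]; simp [h00, h11, h01, h10]
  have hma : (g⁻¹ * S * g).1 (a : V) = (a : V) := by
    simp only [Subgroup.coe_mul, LinearEquiv.mul_apply, hSw]
    exact g.1.symm_apply_apply _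
  have hmM : g⁻¹ * S * g ∈ M := mul_mem (mul_mem (inv_mem hg) hS) hg
  have hmV := rational_of_pres hR (pres_of_fix hR hdim hO hN hmM ha ha0 (c := 1) (by rw [one_smul, hma])) ha0 hma
  set u := (g⁻¹ : isomGroup B).1 (y₀ : V) with hu
  set v := (g⁻¹ : isomGroup B).1 (y₁ : V) with hv
  have hgu : g.1 u = y₀ := g.1.apply_symm_apply _
  have hgv : g.1 v = y₁ := g.1.apply_symm_apply _
  have hm : IsSg B (g⁻¹ * S * g) u v 0 := by
    have := hSs.conj g⁻¹
    rwa [inv_inv] at this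
  -- a rational vector of the plane off the line of `a`
  obtain ⟨b, α, β, hb, hbu⟩ : ∃ (b : V₀) (α β : F), (b : V) = α • u + β • v ∧ β ≠ ε * α := by
    by_contra hc
    push Not at hc
    have key : ∀ z : V₀, B ((u : V) + (-ε) • v) (z : V) = 0 := fun z => by
      have hmem := sub_mem (hmV _ z.2) z.2
      have e : (g⁻¹ * S * g).1 (z : V) - (z : V) = (-B v (z : V)) • u + B u (z : V) • v := by
        rw [hm]; module
      rw [e] at hmem
      have h := hc ⟨_, hmem⟩ _ _ rfl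
      rw [map_add, LinearMap.add_apply, map_smulₛₗ, LinearMap.smul_apply, map_neg, hR.eps_tr, neg_neg, smul_eq_mul]
      linear_combination h
    have h0 : u + (-ε) • v = 0 := hR.sep fun z hz => hR.symm_zero (key ⟨z, hz⟩)
    have h1 := congrArg g.1 h0
    rw [map_add, map_smul, hgu, hgv, map_zero] at h1
    have h2 := hR.vec_zero (a := y₀) (b := -y₁) (by rw [Submodule.coe_neg, smul_neg, ← h1]; module)
    exact one_ne_zero (hind 1 0 (by rw [h2.1]; simp)).1
  have hgb : g.1 (b : V) = α • (y₀ : V) + β • (y₁ : V) := by rw [hb, map_add, map_smul, map_smul, hgu, hgv]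
  have hbb : B (b : V) (b : V) = 0 := by
    rw [← isomGroup_apply g, hgb]; simp [h00, h11, h01, h10]
  have hab : B (a : V) (b : V) = 0 := by
    rw [← isomGroup_apply g, hgb, hga]; simp [h00, h11, h01, h10]
  obtain ⟨R, hR', hRs⟩ := hO.ratFull.ratSg hR a b ha hbb hab
  have hh := hRs.conj g
  rw [hga, hgb] at hh
  have hhM : g * R * g⁻¹ ∈ M := mul_mem (mul_mem hg hR') (inv_mem hg)
  have hfix : (g * R * g⁻¹).1 (y₀ : V) = (y₀ : V) := by
    rw [hh]; simp [h00, h11, h01, h10]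
  have hy0 : y₀ ≠ 0 := fun h => one_ne_zero (hind 1 0 (by rw [h]; simp)).1
  have hhV := rational_of_pres hR (pres_of_fix hR hdim hO hN hhM h00 hy0 (c := 1) (by rw [one_smul, hfix])) hy0 hfix
  -- dual vectors
  have hdual : ∀ {p q : V₀}, (∀ k l : F₀, k • p + l • q = 0 → k = 0 ∧ l = 0) →
      ∃ z : V₀, B (p : V) (z : V) = 1 ∧ B (q : V) (z : V) = 0 := by
    intro p q hpq
    obtain ⟨φ, hφp, hφq⟩ := Submodule.exists_dual_map_eq_bot_of_notMem (p := Submodule.span F₀ {q}) (x := p)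
      (fun h => by
        obtain ⟨k, hk⟩ := Submodule.mem_span_singleton.1 h
        exact one_ne_zero (hpq 1 (-k) (by rw [one_smul, neg_smul, hk, add_neg_cancel])).1) inferInstance
    obtain ⟨z, hz⟩ := hR.exists_of_dual ((φ p)⁻¹ • φ)
    refine ⟨z, ?_, ?_⟩
    · rw [hR.comm₀, hz, LinearMap.smul_apply, smul_eq_mul, inv_mul_cancel₀ hφp]; rfl
    · rw [hR.comm₀, hz, LinearMap.smul_apply, show φ q = 0 from (Submodule.eq_bot_iff _).1 hφq _
        (Submodule.mem_map_of_mem (Submodule.mem_span_singleton_self q)), smul_zero]; rfl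
  have himg : ∀ z : V₀, B ((y₀ : V) + ε • (y₁ : V)) (z : V) • (α • (y₀ : V) + β • (y₁ : V)) -
      B (α • (y₀ : V) + β • (y₁ : V)) (z : V) • ((y₀ : V) + ε • (y₁ : V)) ∈ V₀ := fun z => by
    have hmem := sub_mem (hhV _ z.2) z.2
    rw [hh] at hmem
    convert hmem using 1
    module
  have hco : ∀ {A A' : F}, A • (y₀ : V) + A' • (y₁ : V) ∈ V₀ → σ A = A ∧ σ A' = A' := by
    intro A A' hmem
    obtain ⟨a₀, a₁, hA⟩ := hR.scalar_decomp A
    obtain ⟨b₀, b₁, hB⟩ := hR.scalar_decomp A'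
    have h := hR.vec_zero (a := a₀ • y₀ + b₀ • y₁ - ⟨_, hmem⟩) (b := a₁ • y₀ + b₁ • y₁) (by
      simp [← hA, ← hB, coe_smul_eq]; module)
    obtain ⟨e1, e2⟩ := hind a₁ b₁ h.2
    rw [← hA, ← hB, e1, e2]
    simp [hR.sigma_coe]
  obtain ⟨z₀, hz00, hz01⟩ := hdual hind
  obtain ⟨z₁, hz11, hz10⟩ := hdual (p := y₁) (q := y₀) fun k l h => (hind l k (by rw [add_comm, h])).symm
  have e0 := himg z₀
  simp only [map_add, map_smulₛₗ, LinearMap.add_apply, LinearMap.smul_apply, hz00, hz01, smul_eq_mul, mul_zero,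
    mul_one, add_zero, hR.eps_tr] at e0
  have e1 := himg z₁
  simp only [map_add, map_smulₛₗ, LinearMap.add_apply, LinearMap.smul_apply, hz11, hz10, smul_eq_mul, mul_zero,
    mul_one, zero_add, hR.eps_tr] at e1
  obtain ⟨ha1, hb1⟩ := hco (A := α - σ α) (A' := β - ε * σ α) (by convert e0 using 1; module)
  obtain ⟨ha2, hb2⟩ := hco (A := -(ε * α) - σ β) (A' := -(ε * β) - ε * σ β) (by convert e1 using 1; module)
  simp only [map_sub, map_mul, map_neg, hR.invol, hR.eps_tr] at ha1 hb1 ha2 hb2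
  have h2 := hR.two
  have hα : σ α = α := sub_eq_zero.1 ((mul_eq_zero.1 (show (2 : F) * (σ α - α) = 0 by
    linear_combination ha1)).resolve_left h2)
  have hβ : σ β = -β := eq_neg_of_add_eq_zero_left ((mul_eq_zero.1 (show (2 * ε) * (σ β + β) = 0 by
    linear_combination hb2)).resolve_left (mul_ne_zero h2 hR.eps_ne))
  rw [hα, hβ] at hb1
  exact hbu ((sub_eq_zero.1 ((mul_eq_zero.1 (show (2 : F) * (β - ε * α) = 0 by
    linear_combination -hb1)).resolve_left h2)))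

/-- A partner in the plane of the image, and an irrational member fixing its orthogonal. -/
theorem exists_plane_elt {t : F} (ht : t ∈ F₀) (ht0 : t ≠ 0) (ht2 : t ^ 2 ≠ 1) {g : isomGroup B} (hg : g ∈ M)
    (hgP : ¬ Pres V₀ g) {a : V₀} (ha : B (a : V) (a : V) = 0) (ha0 : a ≠ 0) {y₀ y₁ : V₀}
    (hga : g.1 (a : V) = (y₀ : V) + ε • (y₁ : V)) :
    ∃ (p q : V₀) (w v : V), ∃ k ∈ M, ¬ Pres V₀ k ∧ B (p : V) (p : V) ≠ 0 ∧ B (q : V) (q : V) ≠ 0 ∧
      B (p : V) (q : V) = 0 ∧ k.1 (p : V) = (p : V) ∧ k.1 (q : V) = (q : V) ∧ B w v = 1 ∧ B w w = 0 ∧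
      B (p : V) w = 0 ∧ B (q : V) w = 0 ∧ B (p : V) v = 0 ∧ B (q : V) v = 0 ∧
      k.1 w = t • w ∧ k.1 v = t⁻¹ • v ∧
      ∀ z : V₀, B (z : V) (y₀ : V) = 0 → B (z : V) (y₁ : V) = 0 → k.1 (z : V) = (z : V) := by
  have hD := disc_ne hR hdim hO hN hg hgP ha ha0 hga
  obtain ⟨p, q, hp, hq, hpq, hy0p, hy1p, hy0q, hy1q, hsep⟩ := exists_perp_basis hR hdim hD
  have hp0 := hR.symm_zero hy0p; have hp1 := hR.symm_zero hy1p
  have hq0 := hR.symm_zero hy0q; have hq1 := hR.symm_zero hy1q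
  have hqp := hR.symm_zero hpq
  have hpw : B (p : V) (g.1 (a : V)) = 0 := by rw [hga, map_add, map_smul, hp0, hp1, smul_zero, add_zero]
  have hqw : B (q : V) (g.1 (a : V)) = 0 := by rw [hga, map_add, map_smul, hq0, hq1, smul_zero, add_zero]
  obtain ⟨r, s, hr, hs, hrs⟩ := hR.refl_pair hO.ratFull hp hq
  have hfix : ∀ x : V, B (p : V) x = 0 → B (q : V) x = 0 → (r * s).1 x = x := fun x hx hx' => by
    rw [Subgroup.coe_mul, LinearEquiv.mul_apply, hR.refl_fix hs hx', hR.refl_fix hr hx]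
  have hinv : (r * s) * (r * s) = 1 := by
    refine Subtype.ext (LinearEquiv.ext fun z => ?_)
    show (r * s).1 ((r * s).1 z) = z
    rw [refl_comp hr hs, refl_comp hr hs]
    simp only [map_sub, map_smul, smul_eq_mul, hpq, hqp, mul_zero, sub_zero, zero_sub]
    match_scalars <;> field_simp <;> ring
  set m := g⁻¹ * (r * s) * g with hmdef
  have hma : m.1 (a : V) = (a : V) := by
    rw [hmdef, Subgroup.coe_mul, Subgroup.coe_mul, LinearEquiv.mul_apply, LinearEquiv.mul_apply, hfix _ hpw hqw]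
    exact g.1.symm_apply_apply _
  have hmV := rational_of_pres hR (pres_of_fix hR hdim hO hN (mul_mem (mul_mem (inv_mem hg) hrs) hg) ha ha0 (c := 1)
    (by rw [one_smul]; exact hma)) ha0 hma
  have hmm : ∀ x, m.1 (m.1 x) = x := fun x => by
    rw [← LinearEquiv.mul_apply, ← Subgroup.coe_mul, hmdef,
      show g⁻¹ * (r * s) * g * (g⁻¹ * (r * s) * g) = g⁻¹ * ((r * s) * (r * s)) * g by group, hinv, mul_one,
      inv_mul_cancel]
    rfl
  obtain ⟨f₀, hf₀, haf₀, -⟩ := exists_aniso_perp_line hR ha ha0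
  let u : V₀ := (2 : F₀)⁻¹ • (f₀ + ⟨_, hmV _ f₀.2⟩)
  have hu : (u : V) = (2 : F)⁻¹ • ((f₀ : V) + m.1 (f₀ : V)) := rfl
  have hau : B (a : V) (u : V) = 1 := by
    have h := isomGroup_apply m (a : V) (f₀ : V)
    rw [hma, haf₀] at h
    rw [hu, map_smul, map_add, haf₀, h, smul_eq_mul]
    have := hR.two; field_simp; ring
  have hua : B (u : V) (a : V) = 1 := by rw [hR.comm₀, hau]
  have hmu : m.1 (u : V) = (u : V) := by
    rw [hu, map_smul, map_add, hmm, add_comm]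
  let c : F₀ := ⟨B (u : V) (u : V), hR.form _ u.2 _ u.2⟩ / 2
  have hc : (c : F) = B (u : V) (u : V) / 2 := rfl
  let f : V₀ := u - c • a
  have hff : B (f : V) (f : V) = 0 := by
    simp [f, coe_smul_eq, ha, hau, hua, hR.sigma_coe]
    rw [hc]; have := hR.two; field_simp; ring
  have haf : B (a : V) (f : V) = 1 := by simp [f, coe_smul_eq, ha, hau]
  have hmf : m.1 (f : V) = (f : V) := by simp [f, coe_smul_eq, hmu, hma]
  have hgf : (r * s).1 (g.1 (f : V)) = g.1 (f : V) := by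
    conv_rhs => rw [← hmf]
    rw [hmdef]
    simp only [Subgroup.coe_mul, LinearEquiv.mul_apply]
    exact (g.1.apply_symm_apply _).symm
  have hpv : B (p : V) (g.1 (f : V)) = 0 ∧ B (q : V) (g.1 (f : V)) = 0 := by
    rw [refl_comp hr hs] at hgf
    generalize g.1 (f : V) = x at hgf ⊢
    have e1 := congrArg (B (p : V)) hgf
    have e2 := congrArg (B (q : V)) hgf
    simp only [map_sub, map_smul, smul_eq_mul, hpq, hqp, mul_zero, sub_zero] at e1 e2
    rw [div_mul_eq_mul_div, div_mul_cancel₀ _ hp] at e1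
    rw [div_mul_eq_mul_div, div_mul_cancel₀ _ hq] at e2
    exact ⟨(mul_eq_zero.1 (show (2 : F) * B (p : V) x = 0 by linear_combination -e1)).resolve_left hR.two,
      (mul_eq_zero.1 (show (2 : F) * B (q : V) x = 0 by linear_combination -e2)).resolve_left hR.two⟩
  obtain ⟨T, hT, hTa, hTf, hTz⟩ := exists_torus hR hdim hO ha hff haf ht ht0
  set k := g * T * g⁻¹ with hkdef
  have hk : ∀ x, k.1 (g.1 x) = g.1 (T.1 x) := fun x => by
    rw [hkdef, Subgroup.coe_mul, Subgroup.coe_mul, LinearEquiv.mul_apply, LinearEquiv.mul_apply]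
    congr 2
    exact g.1.symm_apply_apply x
  have hkfix : ∀ x : V₀, B (x : V) (g.1 (a : V)) = 0 → B (x : V) (g.1 (f : V)) = 0 → k.1 (x : V) = (x : V) := by
    intro x hxa hxf
    have hgx : g.1 ((g⁻¹ : isomGroup B).1 (x : V)) = x := g.1.apply_symm_apply _
    rw [← hgx, hk, hTz _ (by rw [← isomGroup_apply g, hgx]; exact hR.symm_zero hxa)
      (by rw [← isomGroup_apply g, hgx]; exact hR.symm_zero hxf)]
  have hkM : k ∈ M := mul_mem (mul_mem hg hT) (inv_mem hg)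
  have hkw : k.1 (g.1 (a : V)) = t • g.1 (a : V) := by rw [hk, hTa, map_smul]
  have hkp : k.1 (p : V) = (p : V) := hkfix p hpw hpv.1
  have hkq : k.1 (q : V) = (q : V) := hkfix q hqw hpv.2
  refine ⟨p, q, g.1 (a : V), g.1 (f : V), k, hkM, fun hP => ?_, hp, hq, hpq, hkp, hkq,
    by rw [isomGroup_apply, haf], by rw [isomGroup_apply, ha], hpw, hqw, hpv.1, hpv.2, hkw,
    by rw [hk, hTf, map_smul], fun z hz0 hz1 => ?_⟩
  swap
  · have e : (z : V) = (B (p : V) (z : V) / B (p : V) (p : V)) • (p : V) +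
        (B (q : V) (z : V) / B (q : V) (q : V)) • (q : V) := sub_eq_zero.1 (hsep _
      (by simp [hy0p, hy0q, hR.symm_zero hz0]) (by simp [hy1p, hy1q, hR.symm_zero hz1])
      (by simp [hpq, div_mul_cancel₀ _ hp]) (by simp [hqp, div_mul_cancel₀ _ hq]))
    rw [e, map_add, map_smul, map_smul, hkp, hkq]
  have hkV := rational_of_pres hR hP (d := p) (fun h => hp (by rw [h]; simp)) hkp
  let k₀ : V₀ := ⟨_, hkV _ y₀.2⟩
  let k₁ : V₀ := ⟨_, hkV _ y₁.2⟩
  let t' : F₀ := ⟨t, ht⟩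
  have hσt : σ t = t := (hR.fixed _).1 ht
  rw [hga, map_add, map_smul] at hkw
  have h := hR.vec_zero (a := k₀ - t' • y₀) (b := k₁ - t' • y₁) (by
    simp [k₀, k₁, t', coe_smul_eq]
    linear_combination (norm := module) hkw)
  have hz : ∀ y : V₀, k.1 (y : V) = t • (y : V) → B (g.1 (a : V)) (y : V) = 0 := fun y hy => by
    have h1 := isomGroup_apply k (g.1 (a : V)) (y : V)
    rw [hy, hk, hTa, map_smul g.1] at h1
    simp only [map_smulₛₗ, LinearMap.smul_apply, RingHom.id_apply, smul_eq_mul, hσt] at h1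
    exact (mul_eq_zero.1 (show (t ^ 2 - 1) * B (g.1 (a : V)) (y : V) = 0 by linear_combination h1)).resolve_left
      (sub_ne_zero.2 ht2)
  have e0 := hz y₀ (congrArg Subtype.val (sub_eq_zero.1 h.1))
  have e1 := hz y₁ (congrArg Subtype.val (sub_eq_zero.1 h.2))
  simp only [hga, map_add, map_smulₛₗ, LinearMap.add_apply, LinearMap.smul_apply, smul_eq_mul, hR.eps_tr,
    hR.comm₀ y₁ y₀] at e0 e1
  obtain ⟨h00, h01⟩ := hR.scalar_zero (hR.form _ y₀.2 _ y₀.2) (neg_mem (hR.form _ y₀.2 _ y₁.2))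
    (by linear_combination e0)
  exact hD (by rw [h00, neg_eq_zero.1 h01]; ring)

/-- There are no isotropic vectors orthogonal to the plane. -/
theorem perp_aniso {t : F} (ht : t ∈ F₀) (ht0 : t ≠ 0) (ht2 : t ^ 2 ≠ 1) {g : isomGroup B} (hg : g ∈ M)
    (hgP : ¬ Pres V₀ g) {a : V₀} (ha : B (a : V) (a : V) = 0) (ha0 : a ≠ 0) {y₀ y₁ : V₀}
    (hga : g.1 (a : V) = (y₀ : V) + ε • (y₁ : V)) {z : V₀} (hzz : B (z : V) (z : V) = 0)
    (hz0 : B (z : V) (y₀ : V) = 0) (hz1 : B (z : V) (y₁ : V) = 0) : z = 0 := by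
  by_contra hz
  obtain ⟨p', q', w, v, k, hkM, hkP, -, -, -, -, -, -, -, -, -, -, -, -, -, hfix⟩ :=
    exists_plane_elt hR hdim hO hN ht ht0 ht2 hg hgP ha ha0 hga
  exact hkP (pres_of_fix hR hdim hO hN hkM hzz hz (c := 1) (by rw [one_smul, hfix z hz0 hz1]))

end CfsgLib.Classical.GeoFour.SU.OrthSub
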