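import Cfsg.Agent.Lib.Classical.GeoFour.SU.OrthSub.Basic

/-!
# Without rational transvections a point stabiliser is rational
-/

set_option autoImplicit false
set_option linter.unusedSectionVars false
set_option backward.isDefEq.respectTransparency false

open Module

namespace CfsgLib.Classical.GeoFour.SU.OrthSub

open SubfieldOrth (IsOFrame IsSg IsRefl)
open SubfieldMax (coe_smul_eq smul_mem')

variable {F : Type*} [Field F] [Fintype F] {V : Type*} [AddCommGroup V] [Module F V] [FiniteDimensional F V]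
  {σ : F →+* F} {F₀ : Subfield F} {B : V →ₛₗ[σ] V →ₗ[F] F} {V₀ : Submodule F₀ V} {ε : F}

/-- No transvection at a rational isotropic vector. -/
def NoTv (M : Subgroup (isomGroup B)) (V₀ : Submodule F₀ V) : Prop :=
  ∀ d : V₀, d ≠ 0 → B (d : V) (d : V) = 0 → ∀ g ∈ M, ∀ c, IsUTv g (d : V) c → c = 0

variable {M : Subgroup (isomGroup B)}
variable (hR : IsOFrame B V₀ ε) (hdim : finrank F₀ V₀ = 4) (hO : Over B V₀ M) (hN : NoTv M V₀)
include hR hdim hO hN

/-- The image of a rational anisotropic vector orthogonal to a fixed point. -/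
theorem image_rational {m : isomGroup B} (hm : m ∈ M) {d f p q : V₀} (hd : B (d : V) (d : V) = 0) (hd0 : d ≠ 0)
    (hdf : B (d : V) (f : V) = 1) (hff : B (f : V) (f : V) = 0)
    (hsep : ∀ z : V, B (d : V) z = 0 → B (f : V) z = 0 → B (p : V) z = 0 → B (q : V) z = 0 → z = 0)
    (hp : B (p : V) (p : V) ≠ 0) (hq : B (q : V) (q : V) ≠ 0) (hdp : B (d : V) (p : V) = 0)
    (hdq : B (d : V) (q : V) = 0) {c : F} (hmd : m.1 (d : V) = c • (d : V)) {b : V₀}
    (hb : B (b : V) (b : V) ≠ 0) (hdb : B (d : V) (b : V) = 0) : σ c • m.1 (b : V) ∈ V₀ := by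
  have hc : c ≠ 0 := fun e => hd0 (Subtype.ext (m.1.map_eq_zero_iff.1 (by rw [hmd, e, zero_smul])))
  have hfd : B (f : V) (d : V) = 1 := by rw [hR.comm₀, hdf]
  obtain ⟨S, hS, hSs⟩ := exists_sieg hR hdim hO hd hb hdb
  set Y := σ c • m.1 (b : V) with hY
  set κ := -(B (b : V) (b : V)) / 2 * (c * σ c) with hκ
  have hdY : B (d : V) Y = 0 := by
    have h := isomGroup_apply m (d : V) (b : V)
    rw [hmd, map_smulₛₗ, LinearMap.smul_apply, hdb, smul_eq_mul] at h
    rw [hY, map_smul, smul_eq_mul, (mul_eq_zero.1 h).resolve_left ((map_ne_zero σ).2 hc), mul_zero]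
  have hK : IsSg B (m * S * m⁻¹) (d : V) Y κ := fun z => by
    rw [hSs.conj m z, hmd, hY, hκ]
    simp only [map_smulₛₗ, LinearMap.smul_apply, smul_eq_mul, RingHom.id_apply, hR.invol, smul_smul]
    module
  obtain ⟨Y₀, Y₁, hparts⟩ := hR.vec_decomp Y
  obtain ⟨hdY0, hdY1⟩ := hR.perp_parts (u := d) (x₀ := Y₀) (x₁ := Y₁) (by rw [hparts]; exact hdY)
  -- commutators
  have hcomm : ∀ x : V₀, B (x : V) (x : V) ≠ 0 → B (d : V) (x : V) = 0 → B (x : V) (Y₁ : V) = 0 := by
    intro x hx hdx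
    obtain ⟨R, hRM, hRs⟩ := exists_sieg hR hdim hO hd hx hdx
    have h12 := hK.mul hR.herm hRs hd hdY hdx
    have hs : B (d : V) ((x : V) + Y) = 0 := by rw [map_add, hdx, hdY, add_zero]
    have hs' : B (d : V) (Y + (x : V)) = 0 := by rw [add_comm]; exact hs
    have h21 := (hRs.mul hR.herm hK hd hdx hdY).inv hR.herm hd hs
    have key := h12.mul hR.herm h21 hd hs' (by rw [map_neg, hs, neg_zero])
    have hval : B (x : V) Y = B (x : V) (Y₀ : V) + ε * B (x : V) (Y₁ : V) := by
      rw [← hparts, map_add, map_smul, smul_eq_mul]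
    have hval' : B Y (x : V) = B (x : V) (Y₀ : V) - ε * B (x : V) (Y₁ : V) := by
      rw [← hR.symm, hval, map_add, map_mul, hR.eps_tr, real hR, real hR]; ring
    have h0 := hN d hd0 hd _ (mul_mem (mul_mem (mul_mem (mul_mem hm hS) (inv_mem hm)) hRM)
      (inv_mem (mul_mem hRM (mul_mem (mul_mem hm hS) (inv_mem hm))))) (2 * ε * B (x : V) (Y₁ : V))
      ⟨hd, by rw [map_mul, map_mul, map_ofNat, hR.eps_tr, real hR]; ring, fun z => by
        rw [key]
        simp only [map_add, map_neg, LinearMap.add_apply, LinearMap.neg_apply, hval, hval']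
        module⟩
    exact (mul_eq_zero.1 h0).resolve_left (mul_ne_zero hR.two hR.eps_ne)
  set l := B (f : V) (Y₁ : V) with hl
  have hY1 : (Y₁ : V) = l • (d : V) := sub_eq_zero.1 (hsep _
    (by rw [map_sub, map_smul, hdY1, hd, smul_zero, sub_zero])
    (by rw [map_sub, map_smul, hfd, smul_eq_mul, mul_one, hl, sub_self])
    (by rw [map_sub, map_smul, hcomm p hp hdp, hR.symm_zero hdp, smul_zero, sub_zero])
    (by rw [map_sub, map_smul, hcomm q hq hdq, hR.symm_zero hdq, smul_zero, sub_zero]))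
  have hlfix : σ l = l := real hR
  have hnorm : B (Y₀ : V) (Y₀ : V) = c * σ c * B (b : V) (b : V) := by
    have h := self_parts hR Y₀ Y₁
    rw [hparts, hY] at h
    simp only [map_smul, map_smulₛₗ, LinearMap.smul_apply, smul_eq_mul, isomGroup_apply, hR.invol, hY1, hd,
      mul_zero, sub_zero] at h
    rw [← h]; ring
  have hY0 : B (Y₀ : V) (Y₀ : V) ≠ 0 := by
    rw [hnorm]; exact mul_ne_zero (mul_ne_zero hc ((map_ne_zero σ).2 hc)) hb
  obtain ⟨R, hRM, hRs⟩ := exists_sieg hR hdim hO hd hY0 hdY0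
  have key := hK.mul hR.herm (hRs.inv hR.herm hd hdY0) hd hdY (by rw [map_neg, hdY0, neg_zero])
  have h0 := hN d hd0 hd _ (mul_mem (mul_mem (mul_mem hm hS) (inv_mem hm)) (inv_mem hRM)) (2 * (ε * l))
    ⟨hd, by rw [map_mul, map_mul, map_ofNat, hR.eps_tr, hlfix]; ring, fun z => by
      rw [key, ← hparts, hY1, hκ, hnorm]
      have h := hR.two
      simp only [map_add, map_neg, map_smul, map_smulₛₗ, LinearMap.add_apply, LinearMap.neg_apply,
        LinearMap.smul_apply, smul_eq_mul, map_mul, hR.eps_tr, hlfix, hR.symm_zero hdY0, hdY0, hd, hnorm]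
      match_scalars <;> field_simp <;> ring⟩
  have hl0 : l = 0 := (mul_eq_zero.1 ((mul_eq_zero.1 h0).resolve_left hR.two)).resolve_left hR.eps_ne
  rw [show Y = (Y₀ : V) by rw [← hparts, hY1, hl0]; simp]
  exact Y₀.2

/-- A member fixing a rational isotropic point is rational up to a scalar. -/
theorem pres_of_fix {m : isomGroup B} (hm : m ∈ M) {d : V₀} (hd : B (d : V) (d : V) = 0) (hd0 : d ≠ 0) {c : F}
    (hmd : m.1 (d : V) = c • (d : V)) : Pres V₀ m := by
  obtain ⟨f, hff, hdf, hfd⟩ := exists_aniso_perp_line hR hd hd0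
  obtain ⟨p, q, hp, hq, hpq, hdp, hfp, hdq, hfq, hsep⟩ := exists_perp_pair_basis hR hdim hd hff hdf
  have hc : c ≠ 0 := fun e => hd0 (Subtype.ext (m.1.map_eq_zero_iff.1 (by rw [hmd, e, zero_smul])))
  have hσc : σ c ≠ 0 := (map_ne_zero σ).2 hc
  have himg := fun {b : V₀} => image_rational hR hdim hO hN hm hd hd0 hdf hff hsep hp hq hdp hdq hmd (b := b)
  set Z := σ c • m.1 (f : V) with hZ
  obtain ⟨Z₀, Z₁, hparts⟩ := hR.vec_decomp Z
  have hdZ : B (d : V) Z = 1 := by
    have h := isomGroup_apply m (d : V) (f : V)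
    rw [hmd, map_smulₛₗ, LinearMap.smul_apply, hdf, smul_eq_mul] at h
    rw [hZ, map_smul, smul_eq_mul, h]
  have hdZ1 : B (d : V) (Z₁ : V) = 0 := by
    rw [← hparts, map_add, map_smul, smul_eq_mul] at hdZ
    exact (hR.scalar_zero (sub_mem (hR.form _ d.2 _ Z₀.2) (one_mem F₀)) (hR.form _ d.2 _ Z₁.2)
      (by linear_combination hdZ)).2
  have hperp : ∀ b : V₀, B (b : V) (b : V) ≠ 0 → B (d : V) (b : V) = 0 → B (f : V) (b : V) = 0 →
      B (σ c • m.1 (b : V)) (Z₁ : V) = 0 := by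
    intro b hb hdb hfb
    have h : B (σ c • m.1 (b : V)) Z = 0 := by
      simp only [hZ, map_smulₛₗ, LinearMap.smul_apply, smul_eq_mul, RingHom.id_apply, isomGroup_apply, hR.comm₀ b f, hfb,
        mul_zero]
    rw [← hparts] at h
    exact (hR.perp_parts (u := ⟨_, himg hb hdb⟩) h).2
  set l := B (f : V) (Z₁ : V) with hl
  have hlfix : σ l = l := real hR
  have hZ1 : (Z₁ : V) = l • (d : V) := by
    set U := (Z₁ : V) - l • (d : V) with hU
    set u := (m⁻¹ : isomGroup B).1 U with hu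
    have hmu : m.1 u = U := m.1.apply_symm_apply U
    have hdU : B (d : V) U = 0 := by rw [hU, map_sub, map_smul, hdZ1, hd, smul_zero, sub_zero]
    have hdu : B (d : V) u = 0 := by
      rw [← isomGroup_apply m, hmu, hmd, map_smulₛₗ, LinearMap.smul_apply, hdU, smul_zero]
    have hbu : ∀ b : V₀, B (b : V) (b : V) ≠ 0 → B (d : V) (b : V) = 0 → B (f : V) (b : V) = 0 →
        B (b : V) u = 0 := by
      intro b hb hdb hfb
      have h0 : B (σ c • m.1 (b : V)) U = 0 := by
        have h1 := isomGroup_apply m (b : V) (d : V)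
        rw [hmd, map_smul, hR.symm_zero hdb, smul_eq_mul] at h1
        have e2 : B (σ c • m.1 (b : V)) (d : V) = 0 := by
          rw [map_smulₛₗ, LinearMap.smul_apply, (mul_eq_zero.1 h1).resolve_left hc, smul_zero]
        have e3 : B (σ c • m.1 (b : V)) U = B (σ c • m.1 (b : V)) (Z₁ : V) - l * B (σ c • m.1 (b : V)) (d : V) := by
          simp only [hU, map_sub, map_smulₛₗ, RingHom.id_apply, smul_eq_mul]
        rw [e3, hperp b hb hdb hfb, e2, mul_zero, sub_zero]
      rw [map_smulₛₗ, LinearMap.smul_apply, ← hmu, isomGroup_apply, smul_eq_mul, hR.invol] at h0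
      exact (mul_eq_zero.1 h0).resolve_left hc
    have hu' : u = B (f : V) u • (d : V) := sub_eq_zero.1 (hsep _
      (by rw [map_sub, map_smul, hdu, hd, smul_zero, sub_zero])
      (by rw [map_sub, map_smul, hfd, smul_eq_mul, mul_one, sub_self])
      (by rw [map_sub, map_smul, hbu p hp hdp hfp, hR.symm_zero hdp, smul_zero, sub_zero])
      (by rw [map_sub, map_smul, hbu q hq hdq hfq, hR.symm_zero hdq, smul_zero, sub_zero]))
    have hU' : U = (B (f : V) u * c) • (d : V) := by rw [← hmu, hu', map_smul, hmd, smul_smul]; simp [hfd]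
    have h1 : B (f : V) U = 0 := by rw [hU, map_sub, map_smul, hfd, smul_eq_mul, mul_one, hl, sub_self]
    rw [hU', map_smul, hfd, smul_eq_mul, mul_one] at h1
    exact sub_eq_zero.1 (hU'.trans (by rw [h1, zero_smul]))
  obtain ⟨t, ht⟩ := hR.herm.exists_uTv hR.nondeg (v := (d : V)) (c := -(ε * l)) hd
    (by rw [map_neg, map_mul, hR.eps_tr, hlfix]; ring)
  have hgen : ∀ x : V₀, B (d : V) (x : V) = 0 → σ c • m.1 (x : V) ∈ V₀ := by
    intro x hdx
    let α : F₀ := ⟨B (f : V) (x : V), hR.form _ f.2 _ x.2⟩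
    let β : F₀ := ⟨B (p : V) (x : V), hR.form _ p.2 _ x.2⟩ / ⟨B (p : V) (p : V), hR.form _ p.2 _ p.2⟩
    let γ : F₀ := ⟨B (q : V) (x : V), hR.form _ q.2 _ x.2⟩ / ⟨B (q : V) (q : V), hR.form _ q.2 _ q.2⟩
    have hα : (α : F) = B (f : V) (x : V) := rfl
    have hβ : (β : F) = B (p : V) (x : V) / B (p : V) (p : V) := rfl
    have hγ : (γ : F) = B (q : V) (x : V) / B (q : V) (q : V) := rfl
    have e : (x : V) = (α : F) • (d : V) + (β : F) • (p : V) + (γ : F) • (q : V) := by
      refine sub_eq_zero.1 (hsep _ ?_ ?_ ?_ ?_)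
      · simp [hdx, hd, hdp, hdq]
      · simp [hα, hfd, hfp, hfq]
      · simp [hβ, hR.symm_zero hdp, hpq, div_mul_cancel₀ _ hp]
      · simp [hγ, hR.symm_zero hdq, hR.symm_zero hpq, div_mul_cancel₀ _ hq]
    rw [e, map_add, map_add, map_smul, map_smul, map_smul, smul_add, smul_add, smul_comm _ (α : F),
      smul_comm _ (β : F), smul_comm _ (γ : F), hmd, smul_smul (σ c)]
    refine add_mem (add_mem (smul_mem' α.2 ?_) (smul_mem' β.2 (himg hp hdp))) (smul_mem' γ.2 (himg hq hdq))
    exact smul_mem' (by rw [mul_comm]; exact (hR.fixed _).2 (hR.herm.conj.norm_fixed c)) d.2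
  have htperp : ∀ x : V₀, B (d : V) (x : V) = 0 → (t * m).1 (x : V) = m.1 (x : V) := by
    intro x hdx
    have h := isomGroup_apply m (d : V) (x : V)
    rw [hmd, map_smulₛₗ, LinearMap.smul_apply, hdx, smul_eq_mul] at h
    rw [Subgroup.coe_mul, LinearEquiv.mul_apply, ht.2.2, (mul_eq_zero.1 h).resolve_left hσc]
    simp
  have htf : σ c • (t * m).1 (f : V) = (Z₀ : V) := by
    rw [Subgroup.coe_mul, LinearEquiv.mul_apply, ht.2.2, smul_add, smul_smul,
      show σ c * (-(ε * l) * B (d : V) (m.1 (f : V))) = -(ε * l) by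
        rw [show B (d : V) (m.1 (f : V)) = (σ c)⁻¹ by
          rw [hZ, map_smul, smul_eq_mul] at hdZ
          exact eq_inv_of_mul_eq_one_right hdZ]
        field_simp, ← hZ, ← hparts, hZ1]
    module
  have hpres : Pres V₀ (t * m) := by
    refine ⟨σ c, hσc, fun x hx => ?_⟩
    let k : F₀ := ⟨B (d : V) x, hR.form _ d.2 _ hx⟩
    have e : x = ((⟨x, hx⟩ - k • f : V₀) : V) + (k : F) • (f : V) := by simp [coe_smul_eq]
    have hperp' : B (d : V) ((⟨x, hx⟩ - k • f : V₀) : V) = 0 := by simp [k, coe_smul_eq, hdf]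
    rw [e, map_add, smul_add, htperp _ hperp', map_smul, smul_comm, htf]
    exact add_mem (hgen _ hperp') (smul_mem' k.2 Z₀.2)
  have hdet : idet B (t * m) = 1 := by rw [map_mul, hR.herm.idet_uTv ht, hO.det m hm, one_mul]
  have h0 := hN d hd0 hd t ((Subgroup.mul_mem_cancel_right M hm).1 (hO.mem _ hdet hpres)) _ ht
  rwa [show t = 1 from Subtype.ext (LinearEquiv.ext fun z => by rw [ht.2.2, h0]; simp), one_mul] at hpres

/-- A member mapping a rational isotropic point to a rational point is rational up to a scalar. -/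
theorem pres_of_image {g : isomGroup B} (hg : g ∈ M) {d e : V₀} (hd : B (d : V) (d : V) = 0) (hd0 : d ≠ 0) {μ : F}
    (hge : g.1 (d : V) = μ • (e : V)) : Pres V₀ g := by
  have hμ : μ ≠ 0 := fun h => hd0 (Subtype.ext (g.1.map_eq_zero_iff.1 (by rw [hge, h, zero_smul])))
  have he : B (e : V) (e : V) = 0 := by
    have h := isomGroup_apply g (d : V) (d : V)
    rw [hge, hd, hR.herm.smul_self] at h
    exact (mul_eq_zero.1 h).resolve_left (mul_ne_zero hμ ((map_ne_zero σ).2 hμ))
  have he0 : e ≠ 0 := fun h => hd0 (Subtype.ext (g.1.map_eq_zero_iff.1 (by rw [hge, h]; simp)))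
  obtain ⟨h, hhM, hhV, k, hk, hk0, hhe⟩ := exists_move hR hdim hO he he0 hd hd0
  obtain ⟨s, hs, hsV⟩ := pres_of_fix hR hdim hO hN (mul_mem hg hhM) he he0 (c := k * μ)
    (by rw [Subgroup.coe_mul, LinearEquiv.mul_apply, hhe, map_smul, hge, smul_smul])
  refine ⟨s, hs, fun y hy => ?_⟩
  let L : V₀ →ₗ[F₀] V₀ :=
    { toFun := fun x => ⟨h.1 (x : V), hhV _ x.2⟩
      map_add' := fun a b => Subtype.ext (by simp)
      map_smul' := fun c a => Subtype.ext (by simp [coe_smul_eq]) }
  obtain ⟨x, hx⟩ := LinearMap.injective_iff_surjective.1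
    (fun a b hab => Subtype.ext (h.1.injective (congrArg Subtype.val hab)) : Function.Injective L) ⟨y, hy⟩
  have := hsV _ x.2
  rwa [Subgroup.coe_mul, LinearEquiv.mul_apply, show h.1 (x : V) = y from congrArg Subtype.val hx] at this

end CfsgLib.Classical.GeoFour.SU.OrthSub
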