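import Cfsg.Agent.Lib.Classical.GeoFour.SU.OrthSub.Plane
import Cfsg.Agent.Lib.Classical.GeoFour.SU.OrthSub.Axes
import Cfsg.Agent.Lib.Classical.GeoFour.SU.OrthSub.Count

/-!
# Above the orthogonal subfield group there is the special unitary group
-/

set_option autoImplicit false
set_option linter.unusedSectionVars false
set_option backward.isDefEq.respectTransparency false

open Module

namespace CfsgLib.Classical.GeoFour.SU.OrthSub

open SubfieldOrth (IsOFrame IsSg IsRefl)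
open SubfieldMax (coe_smul_eq smul_mem')

variable {F : Type*} [Field F] [Fintype F] {V : Type*} [AddCommGroup V] [Module F V] [FiniteDimensional F V]
  {σ : F →+* F} {F₀ : Subfield F} {B : V →ₛₗ[σ] V →ₗ[F] F} {V₀ : Submodule F₀ V} {ε : F}
variable {M : Subgroup (isomGroup B)}

theorem isSquare_of_two {K : Type*} [Field K] [Fintype K] {a b : K} (ha : ¬ IsSquare a) (hb : ¬ IsSquare b) :
    IsSquare (a * b) := by
  classical
  by_contra h
  have := quadraticChar_neg_one_iff_not_isSquare.2 h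
  rw [map_mul, quadraticChar_neg_one_iff_not_isSquare.2 ha, quadraticChar_neg_one_iff_not_isSquare.2 hb] at this
  norm_num at this

open Polynomial in
/-- A nondegenerate binary form represents everything. -/
theorem binary_represents {K : Type*} [Field K] [Fintype K] (hK : ringChar K ≠ 2) {r s : K} (hr : r ≠ 0) (hs : s ≠ 0)
    (m : K) : ∃ x y : K, r * (x * x) + s * (y * y) = m := by
  obtain ⟨a, b, hab⟩ := FiniteField.exists_root_sum_quadratic (f := C r * X ^ 2) (g := C s * X ^ 2 - C m)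
    (by rw [degree_C_mul hr, degree_X_pow]; rfl)
    (by rw [degree_sub_C (by rw [degree_C_mul hs, degree_X_pow]; exact Nat.cast_pos.2 (by norm_num)),
      degree_C_mul hs, degree_X_pow]; rfl)
    (FiniteField.odd_card_of_char_ne_two hK)
  refine ⟨a, b, ?_⟩
  simp at hab
  linear_combination hab

variable (hR : IsOFrame B V₀ ε) (hdim : finrank F₀ V₀ = 4) (hO : Over B V₀ M)
include hR hdim hO

set_option maxHeartbeats 1600000 in
/-- Without a transvection every member is rational up to a scalar. -/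
theorem pres_of_noTv (h5 : 5 ≤ Nat.card F₀) (hN : NoTv M V₀) {g : isomGroup B} (hg : g ∈ M) : Pres V₀ g := by
  classical
  by_contra hgP
  haveI := Fintype.ofFinite F₀
  have h5' : 5 ≤ Fintype.card F₀ := by rwa [← Nat.card_eq_fintype_card]
  have hK2 : ringChar F₀ ≠ 2 := fun h => hR.two₀ (by
    have := ringChar.Nat.cast_ringChar (R := F₀)
    rw [h] at this; exact_mod_cast this)
  obtain ⟨t, ht, ht0, ht2⟩ : ∃ t : F, t ∈ F₀ ∧ t ≠ 0 ∧ t ^ 2 ≠ 1 := by
    obtain ⟨t, ht⟩ : ∃ t : F₀, t ∉ ({0, 1, -1} : Finset F₀) := by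
      by_contra hc
      push Not at hc
      have h1 := (Finset.card_le_card fun x (_ : x ∈ (Finset.univ : Finset F₀)) => hc x).trans Finset.card_le_three
      rw [Finset.card_univ] at h1
      omega
    simp only [Finset.mem_insert, Finset.mem_singleton, not_or] at ht
    refine ⟨t, t.2, fun h => ht.1 (Subtype.ext h), fun h => ?_⟩
    rcases sq_eq_one_iff.1 h with e | e
    · exact ht.2.1 (Subtype.ext e)
    · exact ht.2.2 (Subtype.ext (by simpa using e))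
  obtain ⟨a₀, -, ha₀, ha₀a₀⟩ := hR.exists_iso_mem (U := ⊤) (by rw [finrank_top]; omega)
  obtain ⟨y₀, y₁, hy⟩ := hR.vec_decomp (g.1 (a₀ : V))
  obtain ⟨P₃, P₄, w, v, k, hkM, hkP, h33, h44, h34, hk3, hk4, hwv, hww, h3w, h4w, h3v, h4v, hkw, hkv, -⟩ :=
    exists_plane_elt hR hdim hO hN ht ht0 ht2 hg hgP ha₀a₀ ha₀ hy.symm
  have h43 := hR.symm_zero h34
  obtain ⟨e₁, e₂, h11, h22, h12, h31, h41, h32, h42, hsep⟩ :=
    exists_perp_basis hR hdim (y₀ := P₃) (y₁ := P₄) (by rw [h34]; simp [h33, h44])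
  have h21 := hR.symm_zero h12
  have h13 := hR.symm_zero h31; have h14 := hR.symm_zero h41
  have h23 := hR.symm_zero h32; have h24 := hR.symm_zero h42
  set μ := B (e₁ : V) (e₁ : V) with hμ
  set ν₀ := B (e₂ : V) (e₂ : V) with hν₀
  set ρ₃ := B (P₃ : V) (P₃ : V) with hρ₃
  set ρ₄ := B (P₄ : V) (P₄ : V) with hρ₄
  have hplane : ∀ x : V, B (P₃ : V) x = 0 → B (P₄ : V) x = 0 →
      x = (B (e₁ : V) x / μ) • (e₁ : V) + (B (e₂ : V) x / ν₀) • (e₂ : V) := fun x hx hx' => by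
    refine sub_eq_zero.1 (hsep _ ?_ ?_ ?_ ?_)
    · simp [hx, h31, h32]
    · simp [hx', h41, h42]
    · simp [h12, ← hμ, div_mul_cancel₀ _ h11]
    · simp [h21, ← hν₀, div_mul_cancel₀ _ h22]
  have hkperp : ∀ x : V, B (P₃ : V) x = 0 → B (P₄ : V) x = 0 →
      B (P₃ : V) (k.1 x) = 0 ∧ B (P₄ : V) (k.1 x) = 0 := fun x hx hx' =>
    ⟨by rw [← hk3, isomGroup_apply, hx], by rw [← hk4, isomGroup_apply, hx']⟩
  set a := B (e₁ : V) (k.1 (e₁ : V)) / μ with hadef
  set b := B (e₂ : V) (k.1 (e₁ : V)) / ν₀ with hbdef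
  set a' := B (e₁ : V) (k.1 (e₂ : V)) / μ
  set b' := B (e₂ : V) (k.1 (e₂ : V)) / ν₀
  have hke1 : k.1 (e₁ : V) = a • (e₁ : V) + b • (e₂ : V) :=
    hplane _ (hkperp _ h31 h41).1 (hkperp _ h31 h41).2
  have hke2 : k.1 (e₂ : V) = a' • (e₁ : V) + b' • (e₂ : V) :=
    hplane _ (hkperp _ h32 h42).1 (hkperp _ h32 h42).2
  -- the determinant
  have hdet : a * b' - a' * b = 1 := by
    set w₁ := B (e₁ : V) w / μ
    set w₂ := B (e₂ : V) w / ν₀
    set v₁ := B (e₁ : V) v / μ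
    set v₂ := B (e₂ : V) v / ν₀
    have ew : w = w₁ • (e₁ : V) + w₂ • (e₂ : V) := hplane w h3w h4w
    have ev : v = v₁ • (e₁ : V) + v₂ • (e₂ : V) := hplane v h3v h4v
    have coord : ∀ {x₁ x₂ z₁ z₂ : F}, x₁ • (e₁ : V) + x₂ • (e₂ : V) = z₁ • (e₁ : V) + z₂ • (e₂ : V) →
        x₁ = z₁ ∧ x₂ = z₂ := by
      intro x₁ x₂ z₁ z₂ h
      have i1 := congrArg (B (e₁ : V)) h
      have i2 := congrArg (B (e₂ : V)) h
      simp only [map_add, map_smul, smul_eq_mul, h12, h21, mul_zero, add_zero, zero_add] at i1 i2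
      exact ⟨mul_right_cancel₀ h11 i1, mul_right_cancel₀ h22 i2⟩
    have ew' := hkw
    rw [ew, map_add, map_smul, map_smul, hke1, hke2] at ew'
    obtain ⟨i1, i2⟩ := coord (x₁ := w₁ * a + w₂ * a') (x₂ := w₁ * b + w₂ * b') (z₁ := t * w₁) (z₂ := t * w₂)
      (by linear_combination (norm := module) ew')
    have ev' := hkv
    rw [ev, map_add, map_smul, map_smul, hke1, hke2] at ev'
    obtain ⟨j1, j2⟩ := coord (x₁ := v₁ * a + v₂ * a') (x₂ := v₁ * b + v₂ * b') (z₁ := t⁻¹ * v₁) (z₂ := t⁻¹ * v₂)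
      (by linear_combination (norm := module) ev')
    have hne : w₁ * v₂ - w₂ * v₁ ≠ 0 := by
      intro h
      have i1 : w₁ • v - v₁ • w = 0 := by
        rw [ew, ev, show w₁ • (v₁ • (e₁ : V) + v₂ • (e₂ : V)) - v₁ • (w₁ • (e₁ : V) + w₂ • (e₂ : V)) =
          (w₁ * v₂ - w₂ * v₁) • (e₂ : V) by module, h, zero_smul]
      have i2 : w₂ • v - v₂ • w = 0 := by
        rw [ew, ev, show w₂ • (v₁ • (e₁ : V) + v₂ • (e₂ : V)) - v₂ • (w₁ • (e₁ : V) + w₂ • (e₂ : V)) =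
          (-(w₁ * v₂ - w₂ * v₁)) • (e₁ : V) by module, h, neg_zero, zero_smul]
      have j1 := congrArg (B w) i1
      have j2 := congrArg (B w) i2
      simp only [map_sub, map_smul, map_zero, smul_eq_mul, hwv, hww, mul_one, mul_zero, sub_zero] at j1 j2
      rw [j1, j2] at ew
      simp [ew] at hwv
    refine mul_right_cancel₀ hne ?_
    have e : (w₁ * a + w₂ * a') * (v₁ * b + v₂ * b') - (w₁ * b + w₂ * b') * (v₁ * a + v₂ * a') =
        (t * w₁) * (t⁻¹ * v₂) - (t * w₂) * (t⁻¹ * v₁) := by rw [i1, i2, j1, j2]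
    linear_combination e + (w₁ * v₂ - w₂ * v₁) * mul_inv_cancel₀ ht0
  -- the shape of `k` on the plane
  have hu1 : μ * (σ a * a) + ν₀ * (σ b * b) = μ := by
    have h := isomGroup_apply k (e₁ : V) (e₁ : V)
    rw [hke1] at h
    simp only [map_add, map_smul, map_smulₛₗ, LinearMap.add_apply, LinearMap.smul_apply, smul_eq_mul,
      RingHom.id_apply, h12, h21, ← hμ, ← hν₀, mul_zero, add_zero, zero_add] at h
    linear_combination h
  have hu2 : μ * (σ a * a') + ν₀ * (σ b * b') = 0 := by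
    have h := isomGroup_apply k (e₁ : V) (e₂ : V)
    rw [hke1, hke2] at h
    simp only [map_add, map_smul, map_smulₛₗ, LinearMap.add_apply, LinearMap.smul_apply, smul_eq_mul,
      RingHom.id_apply, h12, h21, ← hμ, ← hν₀, mul_zero, add_zero, zero_add] at h
    linear_combination h
  let κ' : F₀ := ⟨ν₀, hR.form _ e₂.2 _ e₂.2⟩ / ⟨μ, hR.form _ e₁.2 _ e₁.2⟩
  set κ := (κ' : F) with hκdef
  have hν : ν₀ = κ * μ := by rw [hκdef]; exact (div_mul_cancel₀ ν₀ h11).symm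
  have hκ0 : κ ≠ 0 := fun h => h22 (by rw [hν, h, zero_mul])
  have hb' : b' = σ a := mul_left_cancel₀ h11 (by
    linear_combination (μ * σ a) * hdet - b' * hu1 + b * hu2)
  have ha' : a' = -(κ * σ b) := mul_left_cancel₀ h11 (by
    linear_combination (-a') * hu1 + a * hu2 - (σ b * ν₀) * hdet - σ b * hν)
  have hσκ : σ κ = κ := hR.sigma_coe κ'
  have hσμ : σ μ = μ := real hR
  obtain ⟨A₀, A₁, hab⟩ := hR.scalar_decomp a
  obtain ⟨B₀, B₁, hbb⟩ := hR.scalar_decomp b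
  set n := ε * ε with hn
  let n' : F₀ := ⟨n, hR.eps_sq⟩
  have hn0 : n ≠ 0 := mul_ne_zero hR.eps_ne hR.eps_ne
  have hnsq : ∀ x ∈ F₀, x ^ 2 ≠ n := by
    intro x hx h
    have hfix : σ x = x := (hR.fixed _).1 hx
    rcases sq_eq_sq_iff_eq_or_eq_neg.1 (show x ^ 2 = ε ^ 2 by rw [h, hn, pow_two]) with e | e
    · have h' := congrArg σ e
      simp only [hfix, hR.eps_tr] at h'
      exact mul_ne_zero hR.two hR.eps_ne (by linear_combination h' - e)
    · have h' := congrArg σ e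
      simp only [hfix, map_neg, hR.eps_tr] at h'
      exact mul_ne_zero hR.two hR.eps_ne (by linear_combination e - h')
  have hσa : σ a = A₀ - ε * A₁ := by rw [← hab, map_add, map_mul, hR.sigma_coe, hR.sigma_coe, hR.eps_tr]; ring
  have hσb : σ b = B₀ - ε * B₁ := by rw [← hbb, map_add, map_mul, hR.sigma_coe, hR.sigma_coe, hR.eps_tr]; ring
  have hrel : (A₀ : F) ^ 2 + κ * (B₀ : F) ^ 2 - n * ((A₁ : F) ^ 2 + κ * (B₁ : F) ^ 2) = 1 := by
    refine mul_left_cancel₀ h11 ?_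
    rw [hσa, hσb, hν, ← hab, ← hbb] at hu1
    rw [hn]
    linear_combination hu1
  set Kc := (A₁ : F) ^ 2 + κ * (B₁ : F) ^ 2 with hKc
  -- images of plane vectors
  let P0 : F₀ → F₀ → V₀ := fun x y => (A₀ * x - κ' * B₀ * y) • e₁ + (B₀ * x + A₀ * y) • e₂
  let P1 : F₀ → F₀ → V₀ := fun x y => (A₁ * x + κ' * B₁ * y) • e₁ + (B₁ * x - A₁ * y) • e₂
  have himg : ∀ x y : F₀, k.1 ((x • e₁ + y • e₂ : V₀) : V) = (P0 x y : V) + ε • (P1 x y : V) := by
    intro x y
    simp only [P0, P1, Submodule.coe_add, SetLike.val_smul, coe_smul_eq, map_add, map_smul, hke1, hke2, ha', hb',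
      hσa, hσb, Subfield.coe_mul, Subfield.coe_add, Subfield.coe_sub]
    rw [← hab, ← hbb]
    module
  -- two anisotropic planes
  have h34sq : ¬ IsSquare (-(⟨ρ₃, hR.form _ P₃.2 _ P₃.2⟩ * ⟨ρ₄, hR.form _ P₄.2 _ P₄.2⟩ : F₀)) := by
    rintro ⟨Y, hY⟩
    have hY' : -(ρ₃ * ρ₄) = (Y : F) * Y := congrArg Subtype.val hY
    let z : V₀ := (⟨ρ₄, hR.form _ P₄.2 _ P₄.2⟩ : F₀) • P₃ + Y • P₄
    refine hkP (pres_of_fix hR hdim hO hN hkM (d := z) (c := 1) ?_ ?_ ?_)
    · simp [z, coe_smul_eq, h34, h43, hR.sigma_coe, ← hρ₃, ← hρ₄, real hR, show σ ρ₄ = ρ₄ from real hR]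
      linear_combination -ρ₄ * hY'
    · intro h
      have := congrArg (fun x : V₀ => B (P₃ : V) (x : V)) h
      simp [z, coe_smul_eq, h34, ← hρ₃] at this
      rcases this with h' | h'
      · exact h44 h'
      · exact h33 h'
    · simp [z, coe_smul_eq, hk3, hk4]
  -- nonzero parameter
  have hK0 : Kc ≠ 0 := by
    intro hK
    by_cases h01 : A₁ = 0 ∧ B₁ = 0
    · refine hkP ⟨1, one_ne_zero, fun x hx => ?_⟩
      rw [one_smul]
      let x₁ : F₀ := ⟨B (e₁ : V) x, hR.form _ e₁.2 _ hx⟩ / ⟨μ, hR.form _ e₁.2 _ e₁.2⟩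
      let x₂ : F₀ := ⟨B (e₂ : V) x, hR.form _ e₂.2 _ hx⟩ / ⟨ν₀, hR.form _ e₂.2 _ e₂.2⟩
      let x₃ : F₀ := ⟨B (P₃ : V) x, hR.form _ P₃.2 _ hx⟩ / ⟨ρ₃, hR.form _ P₃.2 _ P₃.2⟩
      let x₄ : F₀ := ⟨B (P₄ : V) x, hR.form _ P₄.2 _ hx⟩ / ⟨ρ₄, hR.form _ P₄.2 _ P₄.2⟩
      have e : x = ((x₁ • e₁ + x₂ • e₂ : V₀) : V) + (x₃ : F) • (P₃ : V) + (x₄ : F) • (P₄ : V) := by
        refine sub_eq_zero.1 (hsep _ ?_ ?_ ?_ ?_)
        · simp [x₃, coe_smul_eq, h31, h32, h34, ← hρ₃, div_mul_cancel₀ _ h33]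
        · simp [x₄, coe_smul_eq, h41, h42, h43, ← hρ₄, div_mul_cancel₀ _ h44]
        · simp [x₁, coe_smul_eq, h12, h13, h14, ← hμ, div_mul_cancel₀ _ h11]
        · simp [x₂, coe_smul_eq, h21, h23, h24, ← hν₀, div_mul_cancel₀ _ h22]
      rw [e, map_add, map_add, himg, map_smul, map_smul, hk3, hk4]
      refine add_mem (add_mem ?_ (smul_mem' x₃.2 P₃.2)) (smul_mem' x₄.2 P₄.2)
      simp only [P1, h01.1, h01.2, zero_mul, mul_zero, add_zero, sub_zero, zero_smul, Submodule.coe_zero, smul_zero]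
      exact (P0 x₁ x₂).2
    · refine hkP (pres_of_image hR hdim hO hN hkM (d := (κ' * B₁) • e₁ + (-A₁) • e₂) (e := P0 (κ' * B₁) (-A₁))
        (μ := 1) ?_ ?_ ?_)
      · simp [coe_smul_eq, h12, h21, hR.sigma_coe, ← hκdef, ← hμ, ← hν₀, hν, hσκ]
        linear_combination (κ * μ) * hKc.symm.trans hK
      · intro h
        have i1 := congrArg (fun x : V₀ => B (e₁ : V) (x : V)) h
        have i2 := congrArg (fun x : V₀ => B (e₂ : V) (x : V)) h
        simp [coe_smul_eq, h12, h21, ← hμ, ← hν₀, ← hκdef, h11, h22, hκ0] at i1 i2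
        exact h01 ⟨i2, i1⟩
      · rw [one_smul, himg]
        have e : P1 (κ' * B₁) (-A₁) = 0 := by
          have e1 : A₁ * (κ' * B₁) + κ' * B₁ * (-A₁) = 0 := by ring
          have e2 : B₁ * (κ' * B₁) - A₁ * (-A₁) = 0 := Subtype.ext (by
            simp [← hκdef]; linear_combination hKc.symm.trans hK)
          simp only [P1, e1, e2, zero_smul, add_zero]
        rw [e]; simp
  have hμν : ((-(⟨μ, hR.form _ e₁.2 _ e₁.2⟩ * ⟨ν₀, hR.form _ e₂.2 _ e₂.2⟩) : F₀) : F) = -(μ * ν₀) := rfl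
  let π : F₀ := -(⟨μ, hR.form _ e₁.2 _ e₁.2⟩ * ⟨ν₀, hR.form _ e₂.2 _ e₂.2⟩)
  have hπ : π ≠ 0 := fun h => mul_ne_zero h11 h22 (by
    have := congrArg (Subtype.val : F₀ → F) h
    simpa [π] using this)
  let Ac : F₀ := A₀ * A₀ + κ' * (B₀ * B₀)
  let Kc' : F₀ := A₁ * A₁ + κ' * (B₁ * B₁)
  have hKc' : (Kc' : F) = Kc := by simp [Kc', hKc, ← hκdef]; ring
  have hKc0 : Kc' ≠ 0 := fun h => hK0 (by rw [← hKc', h]; rfl)
  have hn'0 : n' ≠ 0 := fun h => hn0 (congrArg Subtype.val h)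
  by_cases hcase : (Ac * Kc' ≠ 0 ∨ IsSquare π) ∨ n' = -1
  · obtain ⟨ρ, hρsq, hρbad⟩ : ∃ ρ : F₀, IsSquare (π * (ρ ^ 2 - Ac * Kc')) ∧
        ¬ (π * (ρ ^ 2 - n' * Kc' ^ 2) ≠ 0 ∧ IsSquare (π * (ρ ^ 2 - n' * Kc' ^ 2))) := by
      by_cases hcase' : Ac * Kc' ≠ 0 ∨ IsSquare π
      · refine exists_separating hK2 h5' hπ (mul_ne_zero hn'0 (pow_ne_zero _ hKc0)) (fun h => hKc0 ?_) hcase'
        refine Subtype.ext ?_
        have h' := congrArg (Subtype.val : F₀ → F) h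
        simp [Ac, Kc', n', ← hκdef] at h' ⊢
        linear_combination h' - Kc * hrel + (1 - (A₀ : F) ^ 2 - κ * (B₀ : F) ^ 2 + n * Kc) * hKc
      · rw [not_or, not_not] at hcase'
        refine ⟨0, ⟨0, by rw [hcase'.1]; ring⟩, fun h => hcase'.2 ?_⟩
        rw [hcase.resolve_left (not_or.2 ⟨not_not.2 hcase'.1, hcase'.2⟩)] at h
        obtain ⟨Y, hY⟩ := h.2
        exact ⟨Y / Kc', by field_simp; linear_combination hY⟩
    obtain ⟨Y, hY⟩ := hρsq
    have hY' : -(μ * ν₀) * ((ρ : F) ^ 2 - ((A₀ : F) * A₀ + κ * ((B₀ : F) * B₀)) * ((A₁ : F) * A₁ + κ * ((B₁ : F) * B₁))) =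
        (Y : F) * Y := congrArg (Subtype.val : F₀ → F) hY
    let μ' : F₀ := ⟨μ, hR.form _ e₁.2 _ e₁.2⟩
    let c11 : F₀ := μ' * (A₀ * A₁ + κ' * (B₀ * B₁)) - ρ * μ'
    let c12 : F₀ := κ' * μ' * (A₀ * B₁ - A₁ * B₀)
    obtain ⟨x, y, hxy, hform⟩ : ∃ x y : F₀, (x ≠ 0 ∨ y ≠ 0) ∧ (c11 : F) * x * x + 2 * c12 * x * y +
        (-(κ * (μ * ((A₀ : F) * A₁ + κ * ((B₀ : F) * B₁)))) - ρ * (κ * μ)) * y * y = 0 := by
      by_cases h11' : c11 = 0
      · exact ⟨1, 0, Or.inl one_ne_zero, by simp [h11']⟩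
      · refine ⟨-c12 + Y, c11, Or.inr h11', ?_⟩
        rw [hν] at hY'
        simp [c11, c12, μ', ← hκdef]
        linear_combination -(μ * ((A₀ : F) * A₁ + κ * ((B₀ : F) * B₁)) - (ρ : F) * μ) * hY'
    let Pv : V₀ := x • e₁ + y • e₂
    set m := μ * (x : F) ^ 2 + κ * μ * (y : F) ^ 2 with hm
    have hPv : B (Pv : V) (Pv : V) = m := by
      simp [Pv, coe_smul_eq, h12, h21, hR.sigma_coe, ← hμ, ← hν₀, hν, hm]; ring
    have hP1 : B (P1 x y : V) (P1 x y : V) = Kc * m := by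
      simp [P1, coe_smul_eq, h12, h21, hR.sigma_coe, ← hμ, ← hν₀, hν, hm, hKc, ← hκdef, show σ κ = κ from hR.sigma_coe κ']; ring
    have hP01 : B (P0 x y : V) (P1 x y : V) = (ρ : F) * m := by
      simp [c11, c12, μ', ← hκdef] at hform
      simp [P0, P1, coe_smul_eq, h12, h21, hR.sigma_coe, ← hμ, ← hν₀, hν, hm, ← hκdef, show σ κ = κ from hR.sigma_coe κ']
      linear_combination hform
    have hP00 : B (P0 x y : V) (P0 x y : V) = m + n * (Kc * m) := by
      have h := self_parts hR (P0 x y) (P1 x y)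
      rw [← himg, isomGroup_apply] at h
      rw [← hP1, ← hPv]
      linear_combination -h
    have hPv0 : Pv ≠ 0 := fun h => by
      have i1 := congrArg (fun z : V₀ => B (e₁ : V) (z : V)) h
      have i2 := congrArg (fun z : V₀ => B (e₂ : V) (z : V)) h
      simp [Pv, coe_smul_eq, h12, h21, ← hμ, ← hν₀, h11, h22] at i1 i2
      rcases hxy with e | e
      · exact e i1
      · exact e i2
    by_cases hm0 : m = 0
    · exact disc_ne hR hdim hO hN hkM hkP (by rw [hPv, hm0]) hPv0 (himg x y) (by rw [hP01, hP1, hm0]; ring)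
    let ρ₃' : F₀ := ⟨ρ₃, hR.form _ P₃.2 _ P₃.2⟩
    let ρ₄' : F₀ := ⟨ρ₄, hR.form _ P₄.2 _ P₄.2⟩
    let m' : F₀ := ⟨m, hPv ▸ hR.form _ Pv.2 _ Pv.2⟩
    obtain ⟨x₃, x₄, hx34⟩ := binary_represents hK2 (r := ρ₃') (s := ρ₄') (fun h => h33 (congrArg Subtype.val h))
      (fun h => h44 (congrArg Subtype.val h)) (-m')
    have hx34' : ρ₃ * ((x₃ : F) * x₃) + ρ₄ * ((x₄ : F) * x₄) = -m := congrArg (Subtype.val : F₀ → F) hx34
    let R : V₀ := x₃ • P₃ + x₄ • P₄
    let R' : V₀ := (-(ρ₄' * x₄)) • P₃ + (ρ₃' * x₃) • P₄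
    have hRR : B (R : V) (R : V) = -m := by
      simp [R, coe_smul_eq, h34, h43, hR.sigma_coe, ← hρ₃, ← hρ₄]; linear_combination hx34'
    have hR'R' : B (R' : V) (R' : V) = -(m * (ρ₃ * ρ₄)) := by
      simp [R', ρ₃', ρ₄', coe_smul_eq, h34, h43, hR.sigma_coe, ← hρ₃, ← hρ₄, show σ ρ₃ = ρ₃ from real hR,
        show σ ρ₄ = ρ₄ from real hR]
      linear_combination (ρ₃ * ρ₄) * hx34'
    have hka : k.1 ((Pv + R : V₀) : V) = ((P0 x y + R : V₀) : V) + ε • (P1 x y : V) := by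
      rw [Submodule.coe_add, map_add, himg]
      simp [R, coe_smul_eq, hk3, hk4]
      module
    have hiso : B ((Pv + R : V₀) : V) ((Pv + R : V₀) : V) = 0 := by
      have h1 : B (Pv : V) (R : V) = 0 := by simp [Pv, R, coe_smul_eq, h13, h14, h23, h24]
      simp [hPv, hRR, h1, hR.symm_zero h1]
    have hne : Pv + R ≠ 0 := fun h => hm0 (by
      have i := congrArg (fun z : V₀ => B (Pv : V) (z : V)) h
      simp [show B (Pv : V) (R : V) = 0 by simp [Pv, R, coe_smul_eq, h13, h14, h23, h24], hPv] at i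
      exact i)
    have hD := disc_ne hR hdim hO hN hkM hkP hiso hne hka
    have hPR : B (P0 x y : V) (R : V) = 0 ∧ B (P1 x y : V) (R : V) = 0 := by
      constructor <;> simp [P0, P1, R, coe_smul_eq, h13, h14, h23, h24]
    have hD' : B ((P0 x y + R : V₀) : V) (P1 x y : V) ^ 2 - B ((P0 x y + R : V₀) : V) ((P0 x y + R : V₀) : V) *
        B (P1 x y : V) (P1 x y : V) = m ^ 2 * ((ρ : F) ^ 2 - n * Kc ^ 2) := by
      simp [hP01, hP1, hP00, hRR, hPR.1, hR.symm_zero hPR.1, hR.symm_zero hPR.2]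
      ring
    have hδ0 : (ρ : F) ^ 2 - n * Kc ^ 2 ≠ 0 := fun h => hD (by rw [hD', h, mul_zero])
    have hπδ : π * (ρ ^ 2 - n' * Kc' ^ 2) ≠ 0 := mul_ne_zero hπ fun h => hδ0 (by
      rw [← hKc']; exact congrArg (Subtype.val : F₀ → F) h)
    have hnot : ¬ IsSquare (π * (ρ ^ 2 - n' * Kc' ^ 2)) := fun h => hρbad ⟨hπδ, h⟩
    obtain ⟨W, hW⟩ := isSquare_of_two h34sq hnot
    have hW' : -(ρ₃ * ρ₄) * (-(μ * ν₀) * ((ρ : F) ^ 2 - n * Kc ^ 2)) = (W : F) * W := by
      rw [← hKc']; exact congrArg (Subtype.val : F₀ → F) hW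
    let p11 : F₀ := A₁ * x + κ' * B₁ * y
    let p12 : F₀ := B₁ * x - A₁ * y
    let p01 : F₀ := A₀ * x - κ' * B₀ * y
    let p02 : F₀ := B₀ * x + A₀ * y
    let ν' : F₀ := κ' * μ'
    let Q1v : V₀ := (ν' * p12) • e₁ + (-(μ' * p11)) • e₂
    let lam : F₀ := μ' * ν' * (p12 * p01 - p11 * p02) / m'
    let Z : V₀ := Q1v + lam • R
    have hlam : (lam : F) = μ * (κ * μ) * ((p12 : F) * p01 - p11 * p02) / m := rfl
    have hZ0 : B (Z : V) ((P0 x y + R : V₀) : V) = 0 := by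
      have i1 : B (Q1v : V) (P0 x y : V) = μ * (κ * μ) * ((p12 : F) * p01 - p11 * p02) := by
        simp [Q1v, P0, ν', μ', p01, p02, coe_smul_eq, h12, h21, hR.sigma_coe, ← hμ, ← hν₀, hν, ← hκdef,
          show σ κ = κ from hR.sigma_coe κ', show σ μ = μ from real hR]
        ring
      have i2 : B (Q1v : V) (R : V) = 0 := by simp [Q1v, R, coe_smul_eq, h13, h14, h23, h24]
      simp [Z, coe_smul_eq, hR.sigma_coe, i1, i2, hR.symm_zero hPR.1, hRR, hlam, hσκ, hσμ, show σ m = m by rw [← hPv]; exact real hR]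
      field_simp
      ring
    have hZ1 : B (Z : V) (P1 x y : V) = 0 := by
      have i1 : B (Q1v : V) (P1 x y : V) = 0 := by
        simp [Q1v, P1, ν', μ', p11, p12, coe_smul_eq, h12, h21, hR.sigma_coe, ← hμ, ← hν₀, hν, ← hκdef,
          show σ κ = κ from hR.sigma_coe κ', show σ μ = μ from real hR]
        ring
      simp [Z, coe_smul_eq, i1, hR.symm_zero hPR.2]
    have hZZ : B (Z : V) (Z : V) * m = μ * (κ * μ) * (m ^ 2 * ((ρ : F) ^ 2 - n * Kc ^ 2)) := by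
      have i1 : B (Q1v : V) (Q1v : V) = μ * (κ * μ) * (Kc * m) := by
        rw [← hP1]
        simp [Q1v, P1, ν', μ', p11, p12, coe_smul_eq, h12, h21, hR.sigma_coe, ← hμ, ← hν₀, hν, ← hκdef,
          show σ κ = κ from hR.sigma_coe κ', show σ μ = μ from real hR]
        ring
      have i2 : B (Q1v : V) (R : V) = 0 := by simp [Q1v, R, coe_smul_eq, h13, h14, h23, h24]
      have i3 : μ * (κ * μ) * ((p12 : F) * p01 - p11 * p02) ^ 2 =
          (m + n * (Kc * m)) * (Kc * m) - ((ρ : F) * m) ^ 2 := by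
        rw [← hP00, ← hP1, ← hP01]
        simp [P0, P1, p01, p02, p11, p12, coe_smul_eq, h12, h21, hR.sigma_coe, ← hμ, ← hν₀, hν, ← hκdef,
          show σ κ = κ from hR.sigma_coe κ']
        ring
      simp [Z, coe_smul_eq, hR.sigma_coe, i1, i2, hR.symm_zero i2, hRR, hlam, hσκ, hσμ, show σ m = m by rw [← hPv]; exact real hR]
      field_simp
      linear_combination -i3
    have hR0 : B (R' : V) ((P0 x y + R : V₀) : V) = 0 := by
      simp [R', P0, R, ρ₃', ρ₄', coe_smul_eq, h13, h14, h23, h24, h31, h32, h41, h42, h34, h43, hR.sigma_coe,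
        ← hρ₃, ← hρ₄, show σ ρ₃ = ρ₃ from real hR, show σ ρ₄ = ρ₄ from real hR]
      ring
    have hR1 : B (R' : V) (P1 x y : V) = 0 := by
      simp [R', P1, coe_smul_eq, h31, h32, h41, h42]
    have hZR : B (Z : V) (R' : V) = 0 := by
      simp [Z, Q1v, R, R', ρ₃', ρ₄', coe_smul_eq, h13, h14, h23, h24, h34, h43, hR.sigma_coe, ← hρ₃, ← hρ₄]
      ring
    let c : F₀ := -(m' * (ρ₃' * ρ₄'))
    have hc : (c : F) = -(m * (ρ₃ * ρ₄)) := rfl
    have hW0 : (W : F) ≠ 0 := fun h => by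
      rw [h, mul_zero, hν] at hW'
      exact mul_ne_zero (neg_ne_zero.2 (mul_ne_zero h33 h44))
        (mul_ne_zero (neg_ne_zero.2 (mul_ne_zero h11 (mul_ne_zero hκ0 h11))) hδ0) hW'
    have hz0 := perp_aniso hR hdim hO hN ht ht0 ht2 hkM hkP hiso hne hka (z := c • Z + (m' * W) • R') ?_ ?_ ?_
    · have i := congrArg (fun z : V₀ => B (R' : V) (z : V)) hz0
      simp [coe_smul_eq, hR'R', hR.symm_zero hZR, m'] at i
      rcases i with (h | h) | h | h
      · exact hm0 h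
      · exact hW0 (by simpa using congrArg (Subtype.val : F₀ → F) h)
      · exact hm0 h
      · rcases h with h | h
        · exact h33 h
        · exact h44 h
    · simp [coe_smul_eq, hR'R', hZR, hR.symm_zero hZR, hR.sigma_coe, m', show σ m = m by rw [← hPv]; exact real hR]
      rw [hc]
      rw [hν] at hW'
      linear_combination (m * (ρ₃ * ρ₄) * (ρ₃ * ρ₄)) * hZZ + (m ^ 3 * (ρ₃ * ρ₄)) * hW'
    · simp [coe_smul_eq] at hZ0 hR0 ⊢
      simp [hZ0, hR0]
    · simp [coe_smul_eq, hZ1, hR1]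
  -- the exceptional parameters
  · simp only [not_or, not_not] at hcase
    obtain ⟨⟨hAK, hπsq⟩, hn1⟩ := hcase
    have hA : Ac = 0 := (mul_eq_zero.1 hAK).resolve_right hKc0
    have hB0 : B₀ = 0 := by
      by_contra hB
      refine hπsq ⟨A₀ * ⟨μ, hR.form _ e₁.2 _ e₁.2⟩ / B₀, ?_⟩
      have h : (A₀ : F) * A₀ + κ * ((B₀ : F) * B₀) = 0 := congrArg (Subtype.val : F₀ → F) hA
      have hB' : (B₀ : F) ≠ 0 := fun e => hB (Subtype.ext e)
      refine Subtype.ext ?_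
      simp [π, hν]
      field_simp
      linear_combination -h
    have hA0 : A₀ = 0 := by
      have h : (A₀ : F) * A₀ + κ * ((B₀ : F) * B₀) = 0 := congrArg (Subtype.val : F₀ → F) hA
      rw [hB0] at h
      exact Subtype.ext (mul_self_eq_zero.1 (by simpa using h))
    have hnK : n * Kc = -1 := by
      rw [hA0, hB0] at hrel
      simp at hrel
      linear_combination -hrel
    have h1n : 1 + n ≠ 0 := fun h => hn1 (Subtype.ext (by simp [n']; linear_combination h))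
    set α := (1 - n) / (1 + n) with hα
    set γ := 2 / (1 + n) with hγ
    let α' : F₀ := (1 - n') / (1 + n')
    let γ' : F₀ := 2 / (1 + n')
    have hαv : (α' : F) = α := rfl
    have hγv : (γ' : F) = γ := rfl
    have hα0 : α ≠ 0 := div_ne_zero (sub_ne_zero.2 fun h => hnsq 1 (one_mem _) (by rw [← h]; ring)) h1n
    have hγ0 : γ ≠ 0 := div_ne_zero hR.two h1n
    let μ' : F₀ := ⟨μ, hR.form _ e₁.2 _ e₁.2⟩
    let ρ₃' : F₀ := ⟨ρ₃, hR.form _ P₃.2 _ P₃.2⟩
    let ρ₄' : F₀ := ⟨ρ₄, hR.form _ P₄.2 _ P₄.2⟩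
    obtain ⟨x₃, x₄, hx34⟩ := binary_represents hK2 (r := ρ₃') (s := ρ₄') (fun h => h33 (congrArg Subtype.val h))
      (fun h => h44 (congrArg Subtype.val h)) (n' * μ')
    have hx34' : ρ₃ * ((x₃ : F) * x₃) + ρ₄ * ((x₄ : F) * x₄) = n * μ := congrArg (Subtype.val : F₀ → F) hx34
    let S : V₀ := x₃ • P₃ + x₄ • P₄
    let S' : V₀ := (-(ρ₄' * x₄)) • P₃ + (ρ₃' * x₃) • P₄
    let J : V₀ := A₁ • e₁ + B₁ • e₂
    have hJJ : B (J : V) (J : V) = μ * Kc := by
      simp [J, coe_smul_eq, h12, h21, hR.sigma_coe, ← hμ, ← hν₀, hν, hKc]; ring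
    have hSS : B (S : V) (S : V) = n * μ := by
      simp [S, coe_smul_eq, h34, h43, hR.sigma_coe, ← hρ₃, ← hρ₄]; linear_combination hx34'
    have heS : B (e₁ : V) (S : V) = 0 := by simp [S, coe_smul_eq, h13, h14]
    have hJS : B (J : V) (S : V) = 0 := by simp [J, S, coe_smul_eq, h13, h14, h23, h24]
    have hSe := hR.symm_zero heS
    have hSJ := hR.symm_zero hJS
    have hkS : k.1 (S : V) = (S : V) := by simp [S, coe_smul_eq, hk3, hk4]
    have hke : k.1 (e₁ : V) = ε • (J : V) := by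
      rw [hke1, ← hab, ← hbb, hA0, hB0]
      simp [J, coe_smul_eq]
      module
    let Pv : V₀ := (-(n' * A₁)) • e₁ + (-(n' * B₁)) • e₂
    have hkPv : k.1 (Pv : V) = ε • (e₁ : V) := by
      have e : P1 (-(n' * A₁)) (-(n' * B₁)) = e₁ := by
        have i1 : A₁ * -(n' * A₁) + κ' * B₁ * -(n' * B₁) = 1 := Subtype.ext (by
          simp [n', ← hκdef]; linear_combination -hnK + n * hKc.symm)
        have i2 : B₁ * -(n' * A₁) - A₁ * -(n' * B₁) = 0 := by ring
        simp only [P1, i1, i2, one_smul, zero_smul, add_zero]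
      rw [himg, e]
      simp [P0, hA0, hB0]
    have hPP : B (Pv : V) (Pv : V) = -(n * μ) := by
      simp [Pv, n', coe_smul_eq, h12, h21, hR.sigma_coe, ← hμ, ← hν₀, hν, show σ n = n from (hR.fixed _).1 hR.eps_sq]
      linear_combination (n * μ) * hnK + (n * μ * n) * hKc.symm
    have hPS : B (Pv : V) (S : V) = 0 := by simp [Pv, S, coe_smul_eq, h13, h14, h23, h24]
    let U : V₀ := (α' + 1) • e₁ + γ' • S
    have hσα : σ α = α := hαv ▸ hR.sigma_coe α'
    have hσγ : σ γ = γ := hγv ▸ hR.sigma_coe γ'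
    have hU : B (U : V) (U : V) = 2 * μ * (α + 1) := by
      simp [U, coe_smul_eq, hαv, hγv, hσα, hσγ, heS, hSe, hSS, ← hμ]
      rw [hα, hγ]; field_simp; ring
    have hα1 : α + 1 ≠ 0 := by
      rw [hα, div_add_one h1n, show 1 - n + (1 + n) = 2 by ring]; exact div_ne_zero hR.two h1n
    obtain ⟨r, r', hr, hr', hrr⟩ := hR.refl_pair hO.ratFull (p := U) (q := e₁)
      (by rw [hU]; exact mul_ne_zero (mul_ne_zero hR.two h11) hα1) h11
    have hhe : (r * r').1 (e₁ : V) = α • (e₁ : V) + γ • (S : V) := by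
      rw [refl_comp hr hr', hU]
      simp [U, coe_smul_eq, hαv, hγv, hσα, hσγ, hSe, ← hμ]
      have := hR.two
      match_scalars <;> field_simp <;> ring
    have hhS : (r * r').1 (S : V) = (-(n * γ)) • (e₁ : V) + α • (S : V) := by
      rw [refl_comp hr hr', hU]
      simp [U, coe_smul_eq, hαv, hγv, hσα, hσγ, heS, hSS, ← hμ]
      have := hR.two
      match_scalars <;> rw [hα, hγ] at * <;> field_simp <;> ring_nf <;> field_simp <;> ring_nf
    let y₀' : V₀ := α' • (n' • J + S)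
    let y₁' : V₀ := γ' • (S - n' • J)
    have hga : (k * (r * r') * k).1 ((Pv + S : V₀) : V) = (y₀' : V) + ε • (y₁' : V) := by
      simp only [Subgroup.coe_mul (isomGroup B) (k * (r * r')) k, LinearEquiv.mul_apply, Submodule.coe_add, map_add,
        hkPv, hkS]
      simp only [Subgroup.coe_mul (isomGroup B) k (r * r'), LinearEquiv.mul_apply, map_add, map_smul, hhe, hhS,
        hkS, hke]
      simp [y₀', y₁', n', coe_smul_eq, hαv, hγv]
      rw [hn]
      module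
    have hσn : σ n = n := (hR.fixed _).1 hR.eps_sq
    have hc : B (y₀' : V) (y₁' : V) = 2 * (α * γ * (n * μ)) := by
      simp [y₀', y₁', n', coe_smul_eq, hαv, hγv, hσα, hσγ, hσn, hJS, hSJ, hJJ, hSS]
      linear_combination (-(α * γ * (n * μ))) * hnK
    have h11' : B (y₁' : V) (y₁' : V) = 0 := by
      simp [y₁', n', coe_smul_eq, hγv, hσγ, hσn, hJS, hSJ, hJJ, hSS]
      exact Or.inr (by linear_combination (n * μ) * hnK)
    have hD : B (y₀' : V) (y₁' : V) ^ 2 - B (y₀' : V) (y₀' : V) * B (y₁' : V) (y₁' : V) ≠ 0 := by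
      rw [hc, h11', mul_zero, sub_zero]
      exact pow_ne_zero _ (mul_ne_zero hR.two (mul_ne_zero (mul_ne_zero hα0 hγ0) (mul_ne_zero hn0 h11)))
    have hgM : k * (r * r') * k ∈ M := mul_mem (mul_mem hkM hrr) hkM
    have hgP' := not_pres_of_indep hR hga (indep_of_disc hR hD)
    obtain ⟨W, hW⟩ := isSquare_of_two h34sq hπsq
    have hW' : -(ρ₃ * ρ₄) * -(μ * ν₀) = (W : F) * W := congrArg (Subtype.val : F₀ → F) hW
    have hW0 : (W : F) ≠ 0 := fun h => by
      rw [h, mul_zero] at hW'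
      exact mul_ne_zero (neg_ne_zero.2 (mul_ne_zero h33 h44)) (neg_ne_zero.2 (mul_ne_zero h11 h22)) hW'
    let q : V₀ := (κ' * μ' * B₁) • e₁ + (-(μ' * A₁)) • e₂
    have hσμ : σ μ = μ := real hR
    have hσκ : σ κ = κ := hR.sigma_coe κ'
    have hqq : B (q : V) (q : V) = μ ^ 2 * (κ * μ) * Kc := by
      simp [q, μ', coe_smul_eq, h12, h21, hR.sigma_coe, ← hμ, ← hν₀, hν, hKc, ← hκdef, hσμ, hσκ]; ring
    have hqJ : B (q : V) (J : V) = 0 := by
      simp [q, J, μ', coe_smul_eq, h12, h21, hR.sigma_coe, ← hμ, ← hν₀, hν, ← hκdef, hσμ, hσκ]; ring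
    have hqS : B (q : V) (S : V) = 0 := by simp [q, S, coe_smul_eq, h13, h14, h23, h24]
    have hS'J : B (S' : V) (J : V) = 0 := by simp [S', J, coe_smul_eq, h31, h32, h41, h42]
    have hS'S : B (S' : V) (S : V) = 0 := by
      simp [S', S, ρ₃', ρ₄', coe_smul_eq, h34, h43, hR.sigma_coe, ← hρ₃, ← hρ₄, show σ ρ₃ = ρ₃ from real hR,
        show σ ρ₄ = ρ₄ from real hR]
      ring
    have hS'S' : B (S' : V) (S' : V) = n * μ * (ρ₃ * ρ₄) := by
      simp [S', ρ₃', ρ₄', coe_smul_eq, h34, h43, hR.sigma_coe, ← hρ₃, ← hρ₄, show σ ρ₃ = ρ₃ from real hR,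
        show σ ρ₄ = ρ₄ from real hR]
      linear_combination (ρ₃ * ρ₄) * hx34'
    have hqS' : B (q : V) (S' : V) = 0 := by simp [q, S', coe_smul_eq, h13, h14, h23, h24]
    let c : F₀ := n' * μ' * (ρ₃' * ρ₄')
    have hcv : (c : F) = n * μ * (ρ₃ * ρ₄) := rfl
    have hiso : B ((Pv + S : V₀) : V) ((Pv + S : V₀) : V) = 0 := by
      simp [hPP, hSS, hPS, hR.symm_zero hPS]
    have hne : Pv + S ≠ 0 := fun h => mul_ne_zero hn0 h11 (by
      have i := congrArg (fun z : V₀ => B (S : V) (z : V)) h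
      simpa [hR.symm_zero hPS, hSS] using i)
    have hz0 := perp_aniso hR hdim hO hN ht ht0 ht2 hgM hgP' hiso hne hga (z := c • q + (μ' * W) • S') ?_ ?_ ?_
    · have i := congrArg (fun z : V₀ => B (S' : V) (z : V)) hz0
      simp [coe_smul_eq, hS'S', hR.symm_zero hqS', μ'] at i
      rcases i with (h | h) | (h | h) | h | h
      · exact h11 h
      · exact hW0 (by simpa using congrArg (Subtype.val : F₀ → F) h)
      · exact hn0 h
      · exact h11 h
      · exact h33 h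
      · exact h44 h
    · simp [coe_smul_eq, hS'S', hqS', hR.symm_zero hqS', hqq, hR.sigma_coe, μ', hσμ]
      rw [hcv]
      rw [hν] at hW'
      linear_combination (n * μ ^ 5 * κ * (ρ₃ * ρ₄) * (ρ₃ * ρ₄)) * hnK + (-(n * μ ^ 3 * (ρ₃ * ρ₄))) * hW'
    · simp [coe_smul_eq, y₀', hqJ, hqS, hS'J, hS'S]
    · simp [coe_smul_eq, y₁', hqJ, hqS, hS'J, hS'S]

/-- Above the orthogonal subfield group. -/
theorem orth_top (hn : 4 ≤ finrank F V) (h5 : 5 ≤ Nat.card F₀) {g : isomGroup B} (hg : g ∈ M) (hgP : ¬ Pres V₀ g) :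
    sIsom B ≤ M := by
  by_cases hN : NoTv M V₀
  · exact absurd (pres_of_noTv hR hdim hO h5 hN hg) hgP
  · simp only [NoTv, not_forall] at hN
    obtain ⟨d, hd0, hd, g', hg', c, hgc, hc⟩ := hN
    exact sIsom_le_of_tv hR hdim hO hn hd hd0 hg' hgc hc

end CfsgLib.Classical.GeoFour.SU.OrthSub
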